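import Groth.Agent.Sga67.TorsionLift
import Groth.Prelude.Def_SGA7a
import Mathlib.AlgebraicGeometry.ResidueField
import Mathlib.AlgebraicGeometry.Morphisms.Flat
import Mathlib.FieldTheory.IntermediateField.Basic

/-!
# Points of a group scheme and of its base change; descent of points fixed by automorphisms
-/

set_option autoImplicit false
universe u

open CategoryTheory CategoryTheory.Limits AlgebraicGeometry MonoidalCategory CartesianMonoidalCategory
  MonObj

noncomputable section

namespace Groth.Agent.Sga7.H761.BaseChg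

open SGA7 Groth.Agent.Sga67.TorsionLift

variable {K : Type u} [Field K]

section bc

variable (L : Type u) [Field L] [Algebra K L] (A : Over (Spec (CommRingCat.of K))) [GrpObj A]

variable (K) in
/-- `Spec L ⟶ Spec K`. -/
abbrev fKL : Spec (CommRingCat.of L) ⟶ Spec (CommRingCat.of K) :=
  Spec.map (CommRingCat.ofHom (algebraMap K L))

/-- The base change of `A`. -/
abbrev bcA : Over (Spec (CommRingCat.of L)) := (Over.pullback (fKL K L)).obj A

/-- The group structure on the base change. -/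
@[reducible] def grpBc : GrpObj (bcA L A) := Functor.grpObjObj

attribute [local instance] grpBc

/-- `Spec L` over `Spec K` as an image of the terminal object. -/
def ptIso : pt L ≅ (Over.map (fKL K L)).obj (𝟙_ (Over (Spec (CommRingCat.of L)))) :=
  Over.isoMk (Iso.refl _) (by
    change 𝟙 _ ≫ 𝟙 _ ≫ fKL K L = fKL K L
    rw [Category.id_comp, Category.id_comp])

/-- The adjunction, on rational points. -/
def ptEquiv₁ : (𝟙_ (Over (Spec (CommRingCat.of L))) ⟶ bcA L A) ≃*
    ((Over.map (fKL K L)).obj (𝟙_ (Over (Spec (CommRingCat.of L)))) ⟶ A) :=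
  MulEquiv.mk' ((Over.mapPullbackAdj (fKL K L)).homEquiv
      (𝟙_ (Over (Spec (CommRingCat.of L)))) A).symm (fun a b => homEquiv_symm_mul _ a b)

/-- Precomposition with an isomorphism. -/
def preEquiv {X Y : Over (Spec (CommRingCat.of K))} (e : X ≅ Y) : (Y ⟶ A) ≃* (X ⟶ A) where
  toFun f := e.hom ≫ f
  invFun f := e.inv ≫ f
  left_inv f := e.inv_hom_id_assoc f
  right_inv f := e.hom_inv_id_assoc f
  map_mul' a b := MonObj.comp_mul e.hom a b

/-- Rational points of the base change. -/
def ptEquiv : (𝟙_ (Over (Spec (CommRingCat.of L))) ⟶ bcA L A) ≃* (pt L ⟶ A) :=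
  (ptEquiv₁ L A).trans (preEquiv A (ptIso L))

/-- `n`-torsion points of the base change. -/
lemma card_torsion_bc (n : ℕ) :
    Nat.card {w : 𝟙_ (Over (Spec (CommRingCat.of L))) ⟶ bcA L A // w ^ n = 1} =
      Nat.card {x : pt L ⟶ A // x ^ n = 1} := by
  refine Nat.card_congr (Equiv.subtypeEquiv (ptEquiv L A).toEquiv fun w => ?_)
  change w ^ n = 1 ↔ (ptEquiv L A w) ^ n = 1
  rw [← map_pow, MulEquiv.map_eq_one_iff]

end bc

section descent

variable {Ω : Type u} [Field Ω] [Algebra K Ω] (L : IntermediateField K Ω)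
  (A : Over (Spec (CommRingCat.of K))) [GrpObj A]

/-- `Spec Ω ⟶ Spec L` over `Spec K`. -/
def jΩ : pt (K := K) Ω ⟶ pt (K := K) L :=
  Over.homMk (Spec.map (CommRingCat.ofHom (algebraMap L Ω))) (by
    dsimp
    rw [← Spec.map_comp, ← CommRingCat.ofHom_comp, ← IsScalarTower.algebraMap_eq])

instance epi_jΩ_left : Epi (jΩ L).left := by
  have : Flat (Spec.map (CommRingCat.ofHom (algebraMap L Ω))) := by
    rw [Flat.SpecMap_iff]
    change (algebraMap L Ω).Flat
    rw [RingHom.flat_algebraMap_iff]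
    infer_instance
  have : Surjective (Spec.map (CommRingCat.ofHom (algebraMap L Ω))) := by
    constructor
    intro x
    have h1 : Subsingleton (Spec (CommRingCat.of L)) :=
      inferInstanceAs (Subsingleton (PrimeSpectrum L))
    exact ⟨Classical.arbitrary _, Subsingleton.elim _ _⟩
  exact Flat.epi_of_flat_of_surjective (Spec.map (CommRingCat.ofHom (algebraMap L Ω)))

omit [GrpObj A] in
lemma jΩ_comp_injective {x y : pt (K := K) L ⟶ A} (h : jΩ L ≫ x = jΩ L ≫ y) : x = y := by
  ext1
  rw [← cancel_epi (jΩ L).left]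
  exact congrArg (fun f => f.left) h

omit [GrpObj A] in
/-- Points fixed by a set of automorphisms with fixed field inside `L` come from `L`-points. -/
theorem exists_factor (H : Set (Ω ≃ₐ[K] Ω)) (hL : ∀ z : Ω, (∀ σ ∈ H, σ z = z) → z ∈ L)
    (x : Pts Ω A) (hx : ∀ σ ∈ H, galAct σ x = x) : ∃ y : pt (K := K) L ⟶ A, jΩ L ≫ y = x := by
  let e := Scheme.SpecToEquivOfField Ω A.left
  obtain ⟨⟨a, φ⟩, h0⟩ : ∃ y, e x.left = y := ⟨_, rfl⟩
  have h1 : Spec.map φ ≫ A.left.fromSpecResidueField a = x.left := by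
    have := e.symm_apply_apply x.left
    rw [h0] at this
    exact this
  have h2 : ∀ σ ∈ H, φ ≫ CommRingCat.ofHom (σ : Ω →+* Ω) = φ := by
    intro σ hσ
    have h3 : Spec.map (CommRingCat.ofHom (σ : Ω →+* Ω)) ≫ x.left = x.left :=
      congrArg (fun f => f.left) (hx σ hσ)
    rw [← h1, ← Category.assoc, ← Spec.map_comp, cancel_mono] at h3
    exact Spec.map_injective h3
  have h3 : ∀ c, φ.hom c ∈ L := by
    intro c
    apply hL
    intro σ hσ
    exact congrArg (fun f => f.hom c) (h2 σ hσ)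
  let φL : A.left.residueField a ⟶ CommRingCat.of L :=
    CommRingCat.ofHom (φ.hom.codRestrict L.toSubfield.toSubring h3)
  have h4 : φL ≫ CommRingCat.ofHom (algebraMap L Ω) = φ := by
    ext c
    rfl
  have h5 : Spec.map (CommRingCat.ofHom (algebraMap L Ω)) ≫ Spec.map φL ≫
      A.left.fromSpecResidueField a = x.left := by
    rw [← Category.assoc, ← Spec.map_comp, h4, h1]
  have h6 : (Spec.map φL ≫ A.left.fromSpecResidueField a) ≫ A.hom =
      Spec.map (CommRingCat.ofHom (algebraMap K L)) := by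
    have := epi_jΩ_left L
    rw [← cancel_epi (jΩ L).left]
    change Spec.map (CommRingCat.ofHom (algebraMap L Ω)) ≫ _ = (jΩ L).left ≫ (pt (K := K) L).hom
    rw [Over.w (jΩ L), ← Category.assoc, h5]
    exact Over.w x
  exact ⟨Over.homMk (Spec.map φL ≫ A.left.fromSpecResidueField a) h6, by
    ext1
    exact h5⟩

/-- If all `n`-torsion `Ω`-points are fixed then they are `L`-points. -/
theorem card_torsion_descent (H : Set (Ω ≃ₐ[K] Ω)) (hL : ∀ z : Ω, (∀ σ ∈ H, σ z = z) → z ∈ L)
    (n : ℕ) (hx : ∀ x : Pts Ω A, x ^ n = 1 → ∀ σ ∈ H, galAct σ x = x) :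
    Nat.card {x : pt (K := K) L ⟶ A // x ^ n = 1} = Nat.card {x : Pts Ω A // x ^ n = 1} := by
  have hpow : ∀ x : pt (K := K) L ⟶ A, jΩ L ≫ x ^ n = (jΩ L ≫ x) ^ n := fun x =>
    MonObj.comp_pow _ _ _
  refine Nat.card_eq_of_bijective
    (fun x => (⟨jΩ L ≫ x.1, by rw [← hpow, x.2, MonObj.comp_one]⟩ : {x : Pts Ω A // x ^ n = 1}))
    ⟨?_, ?_⟩
  · intro x y h
    exact Subtype.ext (jΩ_comp_injective L A (congrArg Subtype.val h))
  · rintro ⟨x, hxn⟩
    obtain ⟨y, hy⟩ := exists_factor L A H hL x (hx x hxn)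
    refine ⟨⟨y, ?_⟩, Subtype.ext hy⟩
    apply jΩ_comp_injective L A
    rw [hpow, hy, hxn, MonObj.comp_one]

end descent

end Groth.Agent.Sga7.H761.BaseChg
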