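import Mathlib.RingTheory.RamificationInertia.Ramification
import Mathlib.RingTheory.Polynomial.Cyclotomic.Eval
import Mathlib.RingTheory.DiscreteValuationRing.TFAE
import Mathlib.RingTheory.DedekindDomain.Ideal.Lemmas
import Mathlib.RingTheory.UniqueFactorizationDomain.Multiplicity
import Mathlib.FieldTheory.Perfect
import Mathlib.NumberTheory.RamificationInertia.Galois

/-!
# Ramification of `p`-power roots of unity over a DVR of mixed characteristic
-/

set_option autoImplicit false

open IsLocalRing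

namespace Groth.Agent.Sga7.H761.CycloRam

/-- A `p^k`-th root of unity is congruent to `1` modulo a prime over `p`. -/
lemma one_sub_mem {B : Type*} [CommRing B] (m : Ideal B) [m.IsPrime] (p : ℕ) [hp : Fact p.Prime]
    (hpm : (p : B) ∈ m) {k : ℕ} {μ : B} (hμ : μ ^ p ^ k = 1) : 1 - μ ∈ m := by
  rw [← Ideal.Quotient.eq_zero_iff_mem, map_sub, map_one]
  have hchar : CharP (B ⧸ m) p := by
    have h1 : ((p : ℕ) : B ⧸ m) = 0 := by
      rw [← map_natCast (Ideal.Quotient.mk m), Ideal.Quotient.eq_zero_iff_mem]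
      exact hpm
    exact (CharP.charP_iff_prime_eq_zero hp.out).mpr h1
  have h2 : (1 - Ideal.Quotient.mk m μ) ^ p ^ k = 0 := by
    rw [sub_pow_char_pow, one_pow, ← map_pow, hμ, map_one, sub_self]
  exact eq_zero_of_pow_eq_zero h2

lemma eq_zero_or {B : Type*} [CommRing B] [IsDomain B] (p : ℕ) [hp : Fact p.Prime] {k : ℕ} {ζ : B}
    (hζ : IsPrimitiveRoot ζ (p ^ (k + 1))) (m : Ideal B) [m.IsPrime] (hpm : (p : B) ∈ m) :
    (p : B) ∈ m ^ (p ^ (k + 1)).totient := by
  have h1 := Polynomial.eval_one_cyclotomic_prime_pow (R := B) (p := p) k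
  rw [Polynomial.cyclotomic_eq_prod_X_sub_primitiveRoots hζ, Polynomial.eval_prod] at h1
  rw [← h1, ← hζ.card_primitiveRoots, ← Finset.prod_const]
  refine Ideal.prod_mem_prod fun μ hμ => ?_
  rw [Polynomial.eval_sub, Polynomial.eval_X, Polynomial.eval_C]
  exact one_sub_mem m p hpm (k := k + 1)
    ((mem_primitiveRoots (pow_pos hp.out.pos _)).mp hμ).pow_eq_one

theorem totient_le {R B : Type*} [CommRing R] [IsDomain R] [IsDiscreteValuationRing R]
    [CommRing B] [IsDedekindDomain B] [Algebra R B]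
    (hinj : Function.Injective (algebraMap R B))
    (m : Ideal B) [m.IsPrime] [m.LiesOver (maximalIdeal R)] (p : ℕ) [hp : Fact p.Prime]
    (e₀ : ℕ) (he₀ : Ideal.span {(p : R)} = maximalIdeal R ^ e₀) (hpR : (p : R) ∈ maximalIdeal R)
    {k : ℕ} {ζ : B} (hζ : IsPrimitiveRoot ζ (p ^ (k + 1))) :
    (p ^ (k + 1)).totient ≤ e₀ * m.ramificationIdx R := by
  have hpm : (p : B) ∈ m := by
    have h1 : algebraMap R B (p : R) ∈ m := by
      rw [← Ideal.mem_comap, ← Ideal.under_def, ← Ideal.over_def m (maximalIdeal R)]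
      exact hpR
    rwa [map_natCast] at h1
  set I : Ideal B := (maximalIdeal R).map (algebraMap R B) with hI
  have hI0 : I ≠ ⊥ := by
    rw [hI, Ne, Ideal.map_eq_bot_iff_of_injective hinj]
    exact IsDiscreteValuationRing.not_a_field R
  have hIm : I ≤ m := by
    rw [hI, Ideal.map_le_iff_le_comap, ← Ideal.under_def, ← Ideal.over_def m (maximalIdeal R)]
  have hm0 : m ≠ ⊥ := ne_bot_of_le_ne_bot hI0 hIm
  have hmp : Prime m := Ideal.prime_of_isPrime hm0 inferInstance
  have h1 : m ^ (p ^ (k + 1)).totient ∣ I ^ e₀ := by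
    rw [hI, ← Ideal.map_pow, ← he₀, Ideal.map_span, Set.image_singleton, map_natCast,
      Ideal.dvd_span_singleton]
    exact eq_zero_or p hζ m hpm
  rw [pow_dvd_iff_le_emultiplicity, emultiplicity_pow hmp] at h1
  have hfin : FiniteMultiplicity m I := FiniteMultiplicity.of_prime_left hmp hI0
  rw [hfin.emultiplicity_eq_multiplicity,
    ← Ideal.IsDedekindDomain.ramificationIdx_eq_multiplicity (maximalIdeal R) m hI0] at h1
  exact_mod_cast h1

end Groth.Agent.Sga7.H761.CycloRam
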