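import Groth.Agent.Sga7.H761.InertiaLift
import Groth.Agent.Sga7.H761.CycloRam
import Groth.Agent.Etalg.InertiaIndex
import Mathlib.NumberTheory.Cyclotomic.Basic
import Mathlib.Topology.Algebra.OpenSubgroup
import Mathlib.RingTheory.Invariant.Galois

/-!
# Orbits of `p`-power roots of unity under open subgroups of inertia

`R` a DVR of mixed characteristic `(0, p)`: the orbit of a primitive `p^(k+1)`-th root of unity under
the elements of an open subgroup lying in the inertia group is large.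
-/

set_option autoImplicit false
universe u

open scoped Pointwise
open IsLocalRing

noncomputable section

namespace Groth.Agent.Sga7.H761.OrbitBound

open SGA7 Groth.Agent.Sga7.H761.InertiaLift

attribute [local instance] Ideal.Quotient.field

section inertia

variable {K Ω : Type u} [Field K] [Field Ω] [Algebra K Ω] (W : ValuationSubring Ω)

lemma isInertia_one : IsInertia W (1 : Ω ≃ₐ[K] Ω) := fun x hx => ⟨hx, by simp⟩

lemma isInertia_mul {σ τ : Ω ≃ₐ[K] Ω} (hσ : IsInertia W σ) (hτ : IsInertia W τ) :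
    IsInertia W (σ * τ) := by
  intro x hx
  have h1 := hτ x hx
  have h2 := hσ (τ x) h1.1
  refine ⟨h2.1, ?_⟩
  have h3 : (σ * τ) x - x = (σ (τ x) - τ x) + (τ x - x) := by
    rw [AlgEquiv.mul_apply]; ring
  rw [h3]
  exact (Valuation.map_add _ _ _).trans_lt (max_lt h2.2 h1.2)

lemma isInertia_inv {σ : Ω ≃ₐ[K] Ω} (hσ : IsInertia W σ) : IsInertia W σ⁻¹ := by
  intro x hx
  have hσσ : σ (σ⁻¹ x) = x := σ.apply_symm_apply x
  by_cases hy : σ⁻¹ x ∈ W
  · refine ⟨hy, ?_⟩
    have h1 := (hσ _ hy).2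
    rw [hσσ] at h1
    rw [Valuation.map_sub_swap]
    exact h1
  · exfalso
    have hy0 : σ⁻¹ x ≠ 0 := fun h => hy (h ▸ W.zero_mem)
    have hx0 : x ≠ 0 := by
      rintro rfl
      exact hy0 (map_zero _)
    have h1 : W.valuation (σ⁻¹ x)⁻¹ < 1 := by
      rw [val_lt_one_iff _ (inv_ne_zero hy0), inv_inv]
      exact hy
    have h2 : (σ⁻¹ x)⁻¹ ∈ W := (W.valuation_le_one_iff _).mp h1.le
    have h3 := (hσ _ h2).2
    rw [map_inv₀, hσσ] at h3
    have h4 : W.valuation x⁻¹ < 1 := by
      have h5 : x⁻¹ = (x⁻¹ - (σ⁻¹ x)⁻¹) + (σ⁻¹ x)⁻¹ := by ring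
      rw [h5]
      exact (Valuation.map_add _ _ _).trans_lt (max_lt h3 h1)
    rw [val_lt_one_iff _ (inv_ne_zero hx0), inv_inv] at h4
    exact h4 hx

end inertia

lemma le_totient (p : ℕ) (hp : p.Prime) (k : ℕ) : k ≤ (p ^ (k + 1)).totient := by
  rw [Nat.totient_prime_pow_succ hp]
  have h1 : 1 ≤ p - 1 := by have := hp.two_le; omega
  calc k ≤ p ^ k := (Nat.lt_pow_self hp.one_lt).le
    _ = p ^ k * 1 := (mul_one _).symm
    _ ≤ p ^ k * (p - 1) := Nat.mul_le_mul_left _ h1

variable {R K Ω : Type u} [CommRing R] [IsDomain R] [IsDiscreteValuationRing R] [Field K]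
  [CharZero K] [Algebra R K] [IsFractionRing R K] [Field Ω] [Algebra K Ω] [IsGalois K Ω]

theorem exists_bound (W : ValuationSubring Ω) (hW : LiesOver K R W) (p : ℕ) (hp : p.Prime)
    [CharP (ResidueField R) p] (π' : OpenSubgroup (Ω ≃ₐ[K] Ω)) (D : ℕ) :
    ∃ N : ℕ, ∀ (k : ℕ) (ζ : Ω), IsPrimitiveRoot ζ (p ^ (k + 1)) → ∀ s : Finset Ω, s.card ≤ D →
      (∀ σ : Ω ≃ₐ[K] Ω, σ ∈ π' → IsInertia W σ → σ ζ ∈ s) → k ≤ N := by
  have hpf : Fact p.Prime := ⟨hp⟩
  let _ : Algebra R Ω := ((algebraMap K Ω).comp (algebraMap R K)).toAlgebra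
  have htow : IsScalarTower R K Ω := IsScalarTower.of_algebraMap_eq fun _ => rfl
  have hpR : (p : R) ∈ maximalIdeal R := by
    rw [← residue_eq_zero_iff, map_natCast]
    exact CharP.cast_eq_zero _ p
  have hpR0 : (p : R) ≠ 0 := by
    intro h
    have h1 : (p : K) = 0 := by
      rw [← map_natCast (algebraMap R K), h, map_zero]
    exact hp.ne_zero (by exact_mod_cast h1)
  obtain ⟨ϖ, hϖ⟩ := IsDiscreteValuationRing.exists_irreducible R
  obtain ⟨e₀, he₀'⟩ := IsDiscreteValuationRing.ideal_eq_span_pow_irreducible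
    (s := Ideal.span {(p : R)}) (by simpa using hpR0) hϖ
  have he₀ : Ideal.span {(p : R)} = maximalIdeal R ^ e₀ := by
    rw [he₀', hϖ.maximalIdeal_eq, Ideal.span_singleton_pow]
  have hfinq : Finite ((Ω ≃ₐ[K] Ω) ⧸ π'.toSubgroup) :=
    Subgroup.quotient_finite_of_isOpen π'.toSubgroup π'.isOpen
  let c := Nat.card ((Ω ≃ₐ[K] Ω) ⧸ π'.toSubgroup)
  refine ⟨e₀ * (c * D), ?_⟩
  intro k ζ hζ s hs hσs
  have hn0 : NeZero (p ^ (k + 1)) := ⟨(pow_pos hp.pos _).ne'⟩
  let E : IntermediateField K Ω := IntermediateField.adjoin K {ζ}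
  have hcyc : IsCyclotomicExtension {p ^ (k + 1)} K E :=
    hζ.intermediateField_adjoin_isCyclotomicExtension K
  have hfin : FiniteDimensional K E := IsCyclotomicExtension.finiteDimensional {p ^ (k + 1)} K E
  have hgal : IsGalois K E := IsCyclotomicExtension.isGalois {p ^ (k + 1)} K E
  have htowE : IsScalarTower R E Ω := IsScalarTower.of_algebraMap_eq fun r => by
    rw [IsScalarTower.algebraMap_apply R K E, ← IsScalarTower.algebraMap_apply K E Ω,
      ← IsScalarTower.algebraMap_apply R K Ω]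
  have hinjE : Function.Injective (algebraMap R E) := by
    rw [IsScalarTower.algebraMap_eq R K E]
    exact (algebraMap K E).injective.comp (IsFractionRing.injective R K)
  let B := integralClosure R E
  have hfrac : IsFractionRing B E := IsIntegralClosure.isFractionRing_of_finite_extension R K E B
  have hded : IsDedekindDomain B := IsIntegralClosure.isDedekindDomain R K E B
  have hfinB : Module.Finite R B := IsIntegralClosure.finite R K E B
  have hinj : Function.Injective (algebraMap R B) := by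
    refine Function.Injective.of_comp (f := algebraMap B E) ?_
    rw [← RingHom.coe_comp, ← IsScalarTower.algebraMap_eq]
    exact hinjE
  have htf : Module.IsTorsionFree R B := Module.isTorsionFree_iff_algebraMap_injective.mpr hinj
  let _ : MulSemiringAction Gal(E/K) B := IsIntegralClosure.MulSemiringAction R K E B
  have hgg : IsGaloisGroup Gal(E/K) R B := IsGaloisGroup.of_isFractionRing _ _ _ K E
  -- the centre of `W`
  let V : ValuationSubring E := W.comap (algebraMap E Ω)
  have hmap : ∀ r : R, algebraMap E Ω (algebraMap R E r) = algebraMap K Ω (algebraMap R K r) := by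
    intro r
    rw [← IsScalarTower.algebraMap_apply, ← IsScalarTower.algebraMap_apply]
  have hV : EtRam.Dominates R (algebraMap R E) V := by
    refine ⟨fun r => ?_, fun r hr => ?_⟩
    · change algebraMap E Ω (algebraMap R E r) ∈ W
      rw [hmap]
      exact hW.1 r
    · rw [comap_val_lt_one_iff, hmap]
      exact hW.2 r hr
  let m : Ideal B := Groth.Agent.Etalg.RamDict.center B hV.1
  have hmax : m.IsMaximal := Groth.Agent.Etalg.RamDict.center_isMaximal hV
  have hover : m.LiesOver (maximalIdeal R) := Groth.Agent.Etalg.RamDict.center_liesOver hV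
  have hmem : ∀ b : B, b ∈ m ↔ W.valuation (algebraMap E Ω (b : E)) < 1 := fun b => by
    rw [Groth.Agent.Etalg.RamDict.mem_center_iff hV.1 b, comap_val_lt_one_iff]
    rfl
  have hcard := Groth.Agent.Etalg.InertiaIndex.card_inertia_eq Gal(E/K) (maximalIdeal R) m
  have hle1 : m.ramificationIdx R ≤ Nat.card (m.inertia Gal(E/K)) := by
    rw [hcard]
    exact Nat.le_mul_of_pos_right _ (Nat.pos_of_ne_zero (NeZero.ne _))
  -- `ζ` in `B`
  let ζE : E := ⟨ζ, IntermediateField.mem_adjoin_simple_self K ζ⟩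
  have hζE : IsPrimitiveRoot ζE (p ^ (k + 1)) :=
    IsPrimitiveRoot.of_map_of_injective (f := algebraMap E Ω) hζ (algebraMap E Ω).injective
  have hζint : IsIntegral R ζE := (hζE.isIntegral (pow_pos hp.pos _)).tower_top
  let ζB : B := ⟨ζE, hζint⟩
  have hζB : IsPrimitiveRoot ζB (p ^ (k + 1)) :=
    IsPrimitiveRoot.of_map_of_injective (f := algebraMap B E) hζE (IsFractionRing.injective B E)
  have hle2 := Groth.Agent.Sga7.H761.CycloRam.totient_le hinj m p e₀ he₀ hpR hζB
  -- lifts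
  have hlift : ∀ τ : m.inertia Gal(E/K), ∃ σ : Ω ≃ₐ[K] Ω, IsInertia W σ ∧
      ∀ x : E, σ (algebraMap E Ω x) = algebraMap E Ω (τ.1 x) := by
    intro τ
    refine exists_lift W hW E τ.1 ?_
    intro x hx
    have h1 := τ.2 (⟨x, hx⟩ : B)
    have h2 : ((τ.1 • (⟨x, hx⟩ : B) - (⟨x, hx⟩ : B) : B) : E) = τ.1 x - x := by
      change ((τ.1 • (⟨x, hx⟩ : B) : B) : E) - x = _
      congr 1
      exact algebraMap_galRestrict_apply R τ.1 (⟨x, hx⟩ : B)
    have h3 := (hmem _).mp h1
    rw [h2, map_sub] at h3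
    exact h3
  choose L hL hLE using hlift
  -- `E = K(ζ)`
  have hext : ∀ τ τ' : m.inertia Gal(E/K), L τ ζ = L τ' ζ → τ = τ' := by
    intro τ τ' h
    have h1 : ζ = algebraMap E Ω ζE := rfl
    rw [h1, hLE, hLE] at h
    have h2 := (algebraMap E Ω).injective h
    apply Subtype.ext
    have h3 : (τ.1 : E →ₐ[K] E) = (τ'.1 : E →ₐ[K] E) :=
      IntermediateField.algHom_ext_of_eq_adjoin K (S := E) (s := {ζ}) rfl (by
        intro x hx
        obtain rfl : x = ζ := hx
        exact h2)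
    ext x
    exact congrArg (algebraMap E Ω) (DFunLike.congr_fun h3 x)
  let q : m.inertia Gal(E/K) → (Ω ≃ₐ[K] Ω) ⧸ π'.toSubgroup := fun τ => QuotientGroup.mk (L τ)
  let r : Set.range q → m.inertia Gal(E/K) := fun y => y.2.choose
  have hr : ∀ y, q (r y) = y := fun y => y.2.choose_spec
  let F : m.inertia Gal(E/K) → ((Ω ≃ₐ[K] Ω) ⧸ π'.toSubgroup) × s := fun τ =>
    (q τ, ⟨((L (r ⟨q τ, τ, rfl⟩))⁻¹ * L τ) ζ, by
      refine hσs _ ?_ (isInertia_mul W (isInertia_inv W (hL _)) (hL _))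
      exact QuotientGroup.eq.mp (hr ⟨q τ, τ, rfl⟩)⟩)
  have hF : Function.Injective F := by
    intro τ τ' h
    have h1 : q τ = q τ' := congrArg Prod.fst h
    have h2 : ((L (r ⟨q τ, τ, rfl⟩))⁻¹ * L τ) ζ = ((L (r ⟨q τ', τ', rfl⟩))⁻¹ * L τ') ζ :=
      congrArg Subtype.val (congrArg Prod.snd h)
    have h3 : r ⟨q τ, τ, rfl⟩ = r ⟨q τ', τ', rfl⟩ := by
      congr 1
      exact Subtype.ext h1
    rw [h3, AlgEquiv.mul_apply, AlgEquiv.mul_apply] at h2
    exact hext _ _ ((L (r ⟨q τ', τ', rfl⟩))⁻¹.injective h2)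
  have hle3 : Nat.card (m.inertia Gal(E/K)) ≤ c * D := by
    refine (Nat.card_le_card_of_injective F hF).trans ?_
    rw [Nat.card_prod]
    refine Nat.mul_le_mul_left _ ?_
    rwa [Nat.card_eq_fintype_card, Fintype.card_coe]
  calc k ≤ (p ^ (k + 1)).totient := le_totient p hp k
    _ ≤ e₀ * m.ramificationIdx R := hle2
    _ ≤ e₀ * (c * D) := Nat.mul_le_mul_left _ (hle1.trans hle3)

end Groth.Agent.Sga7.H761.OrbitBound
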