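import Groth.Agent.Sga7.H761.WeilGeom

/-!
# An abelian variety of positive dimension cannot have all its `p`-power torsion rational over a
field with few `p`-power roots of unity
-/

set_option autoImplicit false
universe u

open CategoryTheory Limits MonoidalCategory CartesianMonoidalCategory AlgebraicGeometry TopologicalSpace
open scoped MonObj
open Groth.Agent.Dix.Center Groth.Agent.Grpsch.GrowthFF Groth.Agent.Grpsch.GrowthPull
open Groth.Agent.Grpsch.GrowthLine Groth.Agent.Grpsch.GrowthMain Groth.Agent.Grpsch.GrowthGeom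
open Groth.Agent.Grpsch.GrowthAlg
open Groth.Agent.Fdesc.LocGen Groth.Agent.Flat2H.FamExt Groth.Agent.Flat2H.FamDict

noncomputable section

namespace Groth.Agent.Sga7.H761.WeilMain

open Groth.Agent.Sga7.H761.FunSig Groth.Agent.Sga7.H761.PairCore Groth.Agent.Sga7.H761.TransSig
open Groth.Agent.Sga7.H761.WeilGeom

variable {K : Type u} [Field K] (A : Over (Spec (CommRingCat.of K))) [GrpObj A] [IsProper A.hom]
  [GeometricallyIntegral A.hom] [AlgebraicGeometry.IsIntegral A.left]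

attribute [local instance] overA kAlg

lemma t_left_comp_pow [IsCommMonObj A] (n : ℕ) (y : Pt A) (hy : y ^ n = 1) :
    (t y).left ≫ (𝟙 A ^ n).left = (𝟙 A ^ n).left := by
  rw [← Over.comp_left, t_comp_pow A n y hy]

lemma τ_σn [IsCommMonObj A] (n : ℕ) (hn : 1 ≤ n) (y : Pt A) (hy : y ^ n = 1)
    (φ : A.left.functionField) : τM y (σn A n hn φ) = σn A n hn φ := by
  rw [τM_apply, σn_apply]
  have h := t_left_comp_pow A n y hy
  have h2 : ((t y).left ≫ (𝟙 A ^ n).left) (genericPoint A.left) = genericPoint A.left := by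
    rw [h]; exact pow_generic A n hn
  rw [← sig_comp _ _ (t_generic y) (pow_generic A n hn) h2]
  exact sig_congr h h2 _ φ

/-- the fixed field of the `n`-torsion -/
theorem exists_preimage_σn [IsCommMonObj A] (g : ℕ) (hg : topologicalKrullDim A.left = g) (n : ℕ)
    (hn : 1 ≤ n) (hcard : Nat.card {w : Pt A // w ^ n = 1} = n ^ (2 * g))
    (φ : A.left.functionField) (hφ : ∀ y : Pt A, y ^ n = 1 → τM y φ = φ) :
    ∃ ψ, σn A n hn ψ = φ := by
  obtain ⟨M, hM, hs⟩ := Groth.Agent.Grpsch.MulFin.exists_symm_ample A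
  have e := Groth.Agent.Grpsch.MulFin.nonempty_iso_of_symm A M hM.1 hs n
  have hfin := Groth.Agent.Grpsch.MulFin.isFinite_pow A n hn
  have hsur := Groth.Agent.Grpsch.MulFin.surjective_pow A n hn
  have h1 := finrank_stalkMap_eq K A.left A.hom g hg M hM (𝟙 A ^ n).left (Over.w _) n hn e
  have hpos : 0 < n ^ (2 * g) := Nat.pow_pos hn
  have : Finite {w : Pt A // w ^ n = 1} := Nat.finite_of_card_ne_zero (by rw [hcard]; omega)
  have hη := pow_generic A n hn
  have hrange : ∀ x : A.left.functionField,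
      x ∈ ((𝟙 A ^ n).left.stalkMap (genericPoint A.left)).hom.range ↔
        x ∈ (sig (𝟙 A ^ n).left hη).range := by
    intro x
    let i := (A.left.presheaf.stalkCongr (.of_eq hη.symm)).commRingCatIsoToRingEquiv
    constructor
    · rintro ⟨y, rfl⟩
      refine ⟨i.symm y, ?_⟩
      have h2 : sig (𝟙 A ^ n).left hη (i.symm y) =
        (𝟙 A ^ n).left.stalkMap (genericPoint A.left) (i (i.symm y)) := rfl
      rw [h2, i.apply_symm_apply]
    · rintro ⟨y, rfl⟩
      exact ⟨i y, rfl⟩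
  have hinj : Function.Injective ((𝟙 A ^ n).left.stalkMap (genericPoint A.left)).hom := by
    have h2 : Function.Injective (sig (𝟙 A ^ n).left hη) := RingHom.injective _
    let i := (A.left.presheaf.stalkCongr (.of_eq hη.symm)).commRingCatIsoToRingEquiv
    have h3 : ∀ y, ((𝟙 A ^ n).left.stalkMap (genericPoint A.left)).hom y =
        sig (𝟙 A ^ n).left hη (i.symm y) := by
      intro y
      have h2 : sig (𝟙 A ^ n).left hη (i.symm y) =
        (𝟙 A ^ n).left.stalkMap (genericPoint A.left) (i (i.symm y)) := rfl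
      rw [h2, i.apply_symm_apply]
    intro a b hab
    rw [h3, h3] at hab
    exact i.symm.injective (h2 hab)
  have h2 := FixField.finrank_fieldRange _ hinj (sig (𝟙 A ^ n).left hη) hrange
  have h3 : Module.finrank (sig (𝟙 A ^ n).left hη).fieldRange A.left.functionField = n ^ (2 * g) :=
    h2.symm.trans h1
  refine FixField.exists_preimage (sig (𝟙 A ^ n).left hη)
    (fun y : {w : Pt A // w ^ n = 1} => (τM y.1 : A.left.functionField ≃ₐ[K] _).toRingEquiv) ?_ ?_
    (by rw [h3]; exact hpos) (by rw [h3, hcard]) φ (fun y => hφ y.1 y.2)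
  · intro a b hab
    have h4 : (τM a.1 : A.left.functionField ≃ₐ[K] _) = τM b.1 := by
      ext x
      exact DFunLike.congr_fun hab x
    have h5 : a.1 * b.1⁻¹ = 1 := by
      apply τM_injective
      intro φ
      rw [map_mul, map_inv, h4, mul_inv_cancel]
      rfl
    exact Subtype.ext (mul_inv_eq_one.mp h5)
  · intro y φ
    exact τ_σn A n hn y.1 y.2 φ

section

variable {Ω : Type*} [Field Ω] [Algebra K Ω]

/-- A power of the line bundle is invariant under all translations by `p`-power torsion points. -/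
theorem exists_inv [IsCommMonObj A] (g : ℕ) (hg : topologicalKrullDim A.left = g)
    (p : ℕ) (hp : p.Prime) (hcard : ∀ m, Nat.card {w : Pt A // w ^ p ^ m = 1} = (p ^ m) ^ (2 * g))
    (N₁ : ℕ) (hR : ScalarPow.RootBound K Ω p 1 N₁) {M : A.left.Modules}
    (hM : PicF.IsInvertible M) {W : A.left → A.left.Opens} {G : ∀ i j, Γ(A.left, W i ⊓ W j)}
    (hW : ∀ p, p ∈ W p) (hT : Trivs M W G) (hη : ∀ p, genericPoint A.left ∈ W p)
    (m : ℕ) (w : Pt A) (hw : w ^ p ^ m = 1) :
    ∃ f : A.left.functionField, f ≠ 0 ∧ ∀ b, IsU (core A) b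
      (gam G hη (genericPoint A.left) b ^ p ^ (N₁ + 1) * f *
        ((core A).τ w (gam G hη (genericPoint A.left) ((core A).act w b)) ^ p ^ (N₁ + 1))⁻¹) := by
  have hn : 1 ≤ p ^ m := Nat.one_le_pow _ _ hp.pos
  obtain ⟨h, hh, hrel⟩ := exists_rel A (p ^ m) hn hM hW hT hη w hw
  have hsur := Groth.Agent.Grpsch.MulFin.surjective_pow A (p ^ m) hn
  have hfl := Groth.Agent.Grpsch.MulFin.flat_pow A (p ^ m) hn
  refine exists_descent (D := core A) (σn A (p ^ m) hn) (fun b => (𝟙 A ^ p ^ m).left b) (p ^ m)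
    hsur.surj (fun b φ hφ => mem_O_of_sig_mem (𝟙 A ^ p ^ m).left (pow_generic A _ hn) hφ)
    (fun y hy φ => τ_σn A _ hn y hy φ) (fun y hy b => ?_)
    (fun φ hφ => exists_preimage_σn A g hg _ hn (hcard m) φ hφ)
    _ w h hh hrel _ (fun c hc => ?_)
  · have h1 := t_left_comp_pow A (p ^ m) y hy
    exact DFunLike.congr_fun (congrArg (fun f : A.left ⟶ A.left => f.base.hom) h1) b
  · apply (algebraMap K Ω).injective
    rw [map_pow, map_one]
    refine hR.pow_eq_one hp (m := m) ?_ ?_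
    · rw [← map_pow, hc, map_one]
    · rw [minpoly.eq_X_sub_C, Polynomial.natDegree_X_sub_C]

end

/-- a section of the line bundle is a section at all points -/
lemma adapted_reg {X : Scheme.{u}} [AlgebraicGeometry.IsIntegral X] {g N : ℕ} {d : Dat X g}
    {z : Fin (g + 1) → X.functionField} {γ : X → X.functionField} (hA : Adapted d N z γ)
    (j : Fin (g + 1)) (b : X) : z j * (γ b ^ N)⁻¹ ∈ O X b := by
  obtain ⟨i, hi⟩ := d.cov b
  have h1 := (O X b).mul_mem (d.reg i j b hi) (hA.reg i b hi)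
  convert h1 using 1
  rw [hA.eq i, hA.eq j]
  have := hA.zne i
  have := hA.zne 0
  field_simp

section fd

variable {X : Scheme.{u}} [AlgebraicGeometry.IsIntegral X] [X.Over (Spec (CommRingCat.of K))] {g : ℕ}
  (d : Dat X g)

theorem finiteDimensional_Vm [UniversallyClosed (X ↘ Spec (CommRingCat.of K))]
    [LocallyOfFiniteType (X ↘ Spec (CommRingCat.of K))] (hg : topologicalKrullDim X = g) (m : ℕ) :
    FiniteDimensional K (d.Vm K m) := by
  have hfrac := exists_mul_mem (C := fun i => Reg K (d.W i)) (d.A_le K 0)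
    (fun c hc => d.isIntegral K 0 c hc) (d.exists_frac K 0)
  have hfd : FiniteDimensional (F₀ K d.x) X.functionField :=
    finiteDimensional_F₀ (C := fun i => Reg K (d.W i)) d.x0 (d.exists_span K 0) hfrac
  have hind := algebraicIndependent (C := fun i => Reg K (d.W i)) d.x0
    (fun c hc => d.isIntegral K 0 c hc) hfrac (d.le_trdeg K hg)
  obtain ⟨D₁, h₁⟩ := exists_upper (C := fun i => Reg K (d.W i)) d.x0 d.xne hind (d.exists_span K)
  exact (h₁ m).1

end fd

/-- End of the argument: counting. -/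
theorem false_of_card {G : Type*} [CommGroup G] (p : ℕ) (hp : p.Prime) (g : ℕ) (hg1 : 1 ≤ g)
    (hcard : ∀ m, Nat.card {w : G // w ^ p ^ m = 1} = (p ^ m) ^ (2 * g)) (E : ℕ) (hE : 0 < E)
    (h : ∀ m (w : G), w ^ p ^ m = 1 → w ^ E = 1) : False := by
  obtain ⟨e, rfl⟩ := Nat.exists_eq_succ_of_ne_zero hE.ne'
  have key : ∀ w : G, w ^ p ^ (e + 1) = 1 → w ^ p ^ e = 1 := by
    intro w hw
    obtain ⟨i, -, hi⟩ := (Nat.dvd_prime_pow hp).mp (orderOf_dvd_of_pow_eq_one hw)
    have h1 : p ^ i ∣ e + 1 := hi ▸ orderOf_dvd_of_pow_eq_one (h _ w hw)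
    have h2 : p ^ i ≤ e + 1 := Nat.le_of_dvd (Nat.succ_pos _) h1
    have h3 : e + 1 < p ^ (e + 1) := Nat.lt_pow_self hp.one_lt
    have h4 : i < e + 1 := (Nat.pow_lt_pow_iff_right hp.one_lt).mp (h2.trans_lt h3)
    exact orderOf_dvd_iff_pow_eq_one.mp (hi ▸ pow_dvd_pow p (Nat.lt_succ_iff.mp h4))
  have hfin : Finite {w : G // w ^ p ^ e = 1} := Nat.finite_of_card_ne_zero (by
    rw [hcard]; exact pow_ne_zero _ (pow_ne_zero _ hp.ne_zero))
  have h1 := Nat.card_le_card_of_injective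
    (fun w : {w : G // w ^ p ^ (e + 1) = 1} => (⟨w.1, key w.1 w.2⟩ : {w : G // w ^ p ^ e = 1}))
    (fun a b hab => Subtype.ext (congrArg (fun w : {w : G // w ^ p ^ e = 1} => w.1) hab))
  rw [hcard, hcard] at h1
  have h2 : (p ^ e) ^ (2 * g) < (p ^ (e + 1)) ^ (2 * g) :=
    Nat.pow_lt_pow_left (Nat.pow_lt_pow_right hp.one_lt (Nat.lt_succ_self e)) (by omega)
  omega

/-- **Main theorem.** -/
theorem weil_main {Ω : Type*} [Field Ω] [Algebra K Ω] [IsAlgClosed Ω] [CharZero K] [IsCommMonObj A]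
    (g : ℕ) (hg : topologicalKrullDim A.left = g) (hg1 : 1 ≤ g) (p : ℕ) (hp : p.Prime)
    (hcard : ∀ m, Nat.card {w : Pt A // w ^ p ^ m = 1} = (p ^ m) ^ (2 * g))
    (hR : ∀ D, ∃ N, ScalarPow.RootBound K Ω p D N) : False := by
  obtain ⟨M, hM, -⟩ := Groth.Agent.Grpsch.MulFin.exists_symm_ample A
  obtain ⟨W, G, hW, hT⟩ := exists_trivs_pts hM.1
  have hη : ∀ p, genericPoint A.left ∈ W p := fun p => genericPoint_mem (hW p)
  have : IsLocallyNoetherian A.left := LocallyOfFiniteType.isLocallyNoetherian A.hom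
  have : CompactSpace A.left := hM.2.1
  have : IsNoetherian A.left := { }
  have hprop : IsProper (A.left ↘ Spec (CommRingCat.of K)) := ‹IsProper A.hom›
  obtain ⟨d, N, z, hA⟩ := exists_dat (g := g) hg.le hM hW hT hη
  obtain ⟨N₁, hN₁⟩ := hR 1
  obtain ⟨P, hP⟩ : ∃ P, P = p ^ (N₁ + 1) := ⟨_, rfl⟩
  have hP1 : 1 ≤ P := hP ▸ Nat.one_le_pow _ _ hp.pos
  let γ : A.left → A.left.functionField := fun b => gam G hη (genericPoint A.left) b
  let γ' : A.left → A.left.functionField := fun b => γ b ^ (N * P)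
  have hz0 : z 0 ^ P ≠ 0 := pow_ne_zero _ (hA.zne 0)
  have hV : (d.Vm K P).map (LinearMap.mulLeft K (z 0 ^ P)) = V (core A) γ' := by
    ext φ
    rw [Submodule.mem_map]
    constructor
    · rintro ⟨ψ, hψ, rfl⟩
      rw [mem_Vm_iff K hA] at hψ
      intro b
      have h1 := hψ b
      rwa [mul_comm ψ] at h1
    · intro hφ
      refine ⟨(z 0 ^ P)⁻¹ * φ, ?_, mul_inv_cancel_left₀ hz0 φ⟩
      rw [mem_Vm_iff K hA]
      intro b
      have h1 := hφ b
      have h2 : (z 0 ^ P)⁻¹ * φ * z 0 ^ P = φ := by field_simp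
      rw [h2]
      exact h1
  have hVfd : FiniteDimensional K (V (core A) γ') := by
    have := finiteDimensional_Vm (K := K) d hg P
    rw [← hV]
    infer_instance
  have hmem : ∀ i, z i * z 0 ^ (P - 1) ∈ V (core A) γ' := by
    intro i b
    have h1 := (O A.left b).mul_mem (adapted_reg hA i b) ((O A.left b).pow_mem (adapted_reg hA 0 b) (P - 1))
    change _ ∈ O A.left b
    convert h1 using 1
    have h2 : γ' b = (γ b ^ N) * (γ b ^ N) ^ (P - 1) := by
      rw [← pow_succ', Nat.sub_add_cancel hP1, ← pow_mul]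
    rw [h2, mul_pow, mul_inv, inv_pow]
    change z i * z 0 ^ (P - 1) * ((γ b ^ N)⁻¹ * ((γ b ^ N) ^ (P - 1))⁻¹) =
      z i * (γ b ^ N)⁻¹ * (z 0 ^ (P - 1) * ((γ b ^ N) ^ (P - 1))⁻¹)
    ring
  have hnt : Nontrivial (V (core A) γ') := by
    refine ⟨⟨⟨_, hmem 0⟩, 0, fun h0 => ?_⟩⟩
    exact mul_ne_zero (hA.zne 0) (pow_ne_zero _ (hA.zne 0)) (congrArg Subtype.val h0)
  obtain ⟨N₂, hN₂⟩ := hR (Module.finrank K (V (core A) γ') * Module.finrank K (V (core A) γ'))
  have key : ∀ m (w : Pt A), w ^ p ^ m = 1 → ∀ i, τM (w ^ p ^ (N₂ + 1)) (d.x i) = d.x i := by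
    intro m w hw i
    obtain ⟨f, hf, hrel⟩ := exists_inv A g hg p hp hcard N₁ hN₁ hM.1 hW hT hη m w hw
    have hrel' : ∀ b, IsU (core A) b
        (γ' b * f ^ N * ((core A).τ w (γ' ((core A).act w b)))⁻¹) := by
      intro b
      have h1 := (hrel b).pow N
      convert h1 using 1
      rw [← hP, mul_pow, mul_pow, inv_pow, ← pow_mul, ← pow_mul, mul_comm P N, ← map_pow]
    have h2 := exists_fix hrel' (pow_ne_zero N hf) p hp N₂ hN₂ m hw _ _ (hmem i) (hmem 0)
    have h3 : z i * z 0 ^ (P - 1) * (z 0 * z 0 ^ (P - 1))⁻¹ = d.x i := by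
      rw [hA.eq i]
      have := hA.zne 0
      field_simp
    rw [h3] at h2
    exact h2
  obtain ⟨hfd, -⟩ := d.growth K hg
  have hfin : Finite (F₀ K d.x).fixingSubgroup :=
    Finite.of_equiv _ (IntermediateField.fixingSubgroupEquiv (F₀ K d.x)).symm.toEquiv
  refine false_of_card (G := Pt A) p hp g hg1 hcard
    (p ^ (N₂ + 1) * Nat.card (F₀ K d.x).fixingSubgroup) (Nat.mul_pos (Nat.pow_pos hp.pos) Nat.card_pos)
    (fun m w hw => ?_)
  have h1 : (τM (w ^ p ^ (N₂ + 1)) : A.left.functionField ≃ₐ[K] _) ∈ (F₀ K d.x).fixingSubgroup := by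
    rw [IntermediateField.mem_fixingSubgroup_iff]
    intro y hy
    let L : IntermediateField K A.left.functionField :=
      { (AlgHom.equalizer ((τM (w ^ p ^ (N₂ + 1)) : A.left.functionField ≃ₐ[K] _) :
          A.left.functionField →ₐ[K] _) (AlgHom.id K _)) with
        inv_mem' := fun x hx => by
          change τM (w ^ p ^ (N₂ + 1)) x⁻¹ = x⁻¹
          have h2 : τM (w ^ p ^ (N₂ + 1)) x = x := hx
          rw [map_inv₀, h2] }
    have h2 : F₀ K d.x ≤ L := by
      rw [F₀, IntermediateField.adjoin_le_iff]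
      rintro _ ⟨j, rfl⟩
      exact key m w hw j.succ
    exact h2 hy
  apply τM_injective
  intro φ
  have h2 : (⟨_, h1⟩ : (F₀ K d.x).fixingSubgroup) ^ Nat.card (F₀ K d.x).fixingSubgroup = 1 :=
    pow_card_eq_one'
  have h3 := congrArg Subtype.val h2
  rw [pow_mul, map_pow]
  exact DFunLike.congr_fun h3 φ

end Groth.Agent.Sga7.H761.WeilMain
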