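import Groth.Agent.Grpsch.Cube

/-!
# Theorem of the square: `[n]^* t_w^* L = [n]^* L` for `w` killed by `n`
-/

set_option autoImplicit false
universe u

open CategoryTheory Limits MonoidalCategory CartesianMonoidalCategory AlgebraicGeometry
open scoped MonObj

namespace Groth.Agent.Sga7.H761.CubeSq

open Groth.Agent.Grpsch.PicGrp Groth.Agent.Grpsch.Cube

variable {K : Type u} [Field K] {A : Over (Spec (CommRingCat.of K))} [GrpObj A]

theorem pl_const {T : Over (Spec (CommRingCat.of K))} (w : 𝟙_ (Over (Spec (CommRingCat.of K))) ⟶ A)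
    (L : Pic A.left) : pl (toUnit T ≫ w) L = 1 := by
  rw [pl_comp]
  have h1 : pl w L = 1 := pic_spec_local K _
  rw [h1, map_one]

/-- `x^* (t_b^* L ⊗ L⁻¹)`. -/
noncomputable def lam {T : Over (Spec (CommRingCat.of K))} (b x : T ⟶ A) (L : Pic A.left) :
    Pic T.left := pl (x * b) L * (pl x L)⁻¹

variable [IsProper A.hom] [GeometricallyIntegral A.hom] {T : Over (Spec (CommRingCat.of K))}
  (L : Pic A.left)

theorem lam_mul_left (b x y : T ⟶ A) (hb : pl b L = 1) :
    lam b (x * y) L = lam b x L * lam b y L := by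
  have h := cube L x y b
  rw [hb, mul_one] at h
  unfold lam
  generalize pl (x * y * b) L = a1 at *
  generalize pl (x * y) L = a2 at *
  generalize pl (x * b) L = a3 at *
  generalize pl (y * b) L = a4 at *
  generalize pl x L = a5 at *
  generalize pl y L = a6 at *
  rw [mul_inv_eq_iff_eq_mul]
  have h2 : a1 = a2 * a3 * a4 * a6⁻¹ * a5⁻¹ := by
    rw [← h]; group
  rw [h2]
  have : ∀ a b c d e : Pic T.left, a * b * c * d * e = b * e * (c * d) * a := by
    intros; ac_rfl
  exact this _ _ _ _ _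

omit [IsProper A.hom] [GeometricallyIntegral A.hom] in
theorem lam_one_left (b : T ⟶ A) (hb : pl b L = 1) : lam b 1 L = 1 := by
  unfold lam
  rw [one_mul, pl_one, hb, inv_one, mul_one]

theorem lam_pow_left (b x : T ⟶ A) (hb : pl b L = 1) (n : ℕ) :
    lam b (x ^ n) L = lam b x L ^ n := by
  induction n with
  | zero => rw [pow_zero, pow_zero, lam_one_left L b hb]
  | succ n ih => rw [pow_succ, pow_succ, lam_mul_left L b _ _ hb, ih]

theorem lam_mul_right (b b' x : T ⟶ A) (hb : pl b L = 1) (hb' : pl b' L = 1)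
    (hbb' : pl (b * b') L = 1) : lam (b * b') x L = lam b x L * lam b' x L := by
  have h := cube L x b b'
  rw [hb, hb', hbb', mul_one, mul_one, mul_one, mul_assoc x] at h
  unfold lam
  generalize pl (x * (b * b')) L = a1 at *
  generalize pl (x * b) L = a3 at *
  generalize pl (x * b') L = a4 at *
  generalize pl x L = a5 at *
  have h2 : a1 = a3 * a4 * a5⁻¹ := by
    rw [← h]; group
  rw [h2]
  have : ∀ a b c : Pic T.left, a * b * c * c = a * c * (b * c) := by
    intros; ac_rfl
  exact this _ _ _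

omit [IsProper A.hom] [GeometricallyIntegral A.hom] in
theorem lam_one_right (x : T ⟶ A) : lam 1 x L = 1 := by
  unfold lam
  rw [mul_one, mul_inv_cancel]

theorem lam_pow_right (w : 𝟙_ (Over (Spec (CommRingCat.of K))) ⟶ A) (x : T ⟶ A) (n : ℕ) :
    lam (toUnit T ≫ w ^ n) x L = lam (toUnit T ≫ w) x L ^ n := by
  induction n with
  | zero => rw [pow_zero, pow_zero, MonObj.comp_one, lam_one_right]
  | succ n ih =>
    rw [pow_succ, pow_succ, MonObj.comp_mul, lam_mul_right L _ _ _ (pl_const _ _) (pl_const _ _) ?_, ih]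
    rw [← MonObj.comp_mul]
    exact pl_const _ _

/-- `[n]^* t_w^* L = [n]^* L` for `w ^ n = 1`. -/
theorem pl_pow_mul_const (w : 𝟙_ (Over (Spec (CommRingCat.of K))) ⟶ A) (x : T ⟶ A) (n : ℕ)
    (hw : w ^ n = 1) : pl (x ^ n * (toUnit T ≫ w)) L = pl (x ^ n) L := by
  have h1 : lam (toUnit T ≫ w) (x ^ n) L = 1 := by
    rw [lam_pow_left L _ _ (pl_const _ _), ← lam_pow_right, hw, MonObj.comp_one, lam_one_right]
  rw [lam, mul_inv_eq_one] at h1
  exact h1

end Groth.Agent.Sga7.H761.CubeSq
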