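import Mathlib.FieldTheory.Galois.Basic
import Mathlib.FieldTheory.Fixed

/-!
# Fixed fields of finite groups of automorphisms over the image of an endomorphism
-/

set_option autoImplicit false

namespace Groth.Agent.Sga7.H761.FixField

theorem finrank_fieldRange {S F : Type*} [CommRing S] [Field F] (s : S →+* F)
    (hs : Function.Injective s) (σ : F →+* F) (h : ∀ x : F, x ∈ s.range ↔ x ∈ σ.range) :
    letI := s.toAlgebra
    Module.finrank S F = Module.finrank σ.fieldRange F := by
  letI := s.toAlgebra
  let i : S →+* σ.fieldRange := s.codRestrict σ.fieldRange.toSubring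
    (fun x => (h _).mp ⟨x, rfl⟩)
  have hi : Function.Bijective i := by
    constructor
    · intro a b hab
      exact hs (congrArg Subtype.val hab)
    · rintro ⟨y, hy⟩
      obtain ⟨x, hx⟩ := (h y).mpr hy
      exact ⟨x, Subtype.ext hx⟩
  refine Algebra.finrank_eq_of_equiv_equiv (RingEquiv.ofBijective i hi) (RingEquiv.refl F) ?_
  rfl

/-- If a finite group of automorphisms of `F` fixes `σ(F)` and has order at least `[F : σ(F)]`,
its fixed field is `σ(F)`. -/
theorem exists_preimage {F H : Type*} [Field F] [Finite H] (σ : F →+* F)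
    (ρ : H → (F ≃+* F)) (hρ : Function.Injective ρ) (hρσ : ∀ h φ, ρ h (σ φ) = σ φ)
    (hfin : 0 < Module.finrank σ.fieldRange F)
    (hcard : Module.finrank σ.fieldRange F ≤ Nat.card H) (φ : F) (hφ : ∀ h, ρ h φ = φ) :
    ∃ ψ, σ ψ = φ := by
  have hfd : FiniteDimensional σ.fieldRange F := Module.finite_of_finrank_pos hfin
  let r : H → (F ≃ₐ[σ.fieldRange] F) := fun h =>
    AlgEquiv.ofRingEquiv (f := ρ h) (by
      rintro ⟨_, x, rfl⟩
      exact hρσ h x)
  have hr : Function.Injective r := by
    intro a b hab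
    apply hρ
    ext x
    exact DFunLike.congr_fun hab x
  have h1 : Nat.card (F ≃ₐ[σ.fieldRange] F) ≤ Module.finrank σ.fieldRange F := by
    rw [Nat.card_eq_fintype_card]
    exact AlgEquiv.card_le
  have h2 : Nat.card H ≤ Nat.card (F ≃ₐ[σ.fieldRange] F) := Nat.card_le_card_of_injective r hr
  have h3 : Function.Bijective r := (Function.Injective.bijective_of_nat_card_le hr (h1.trans hcard))
  have h4 : IsGalois σ.fieldRange F := by
    apply IsGalois.of_card_aut_eq_finrank
    exact le_antisymm h1 (hcard.trans h2)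
  have h5 : φ ∈ (⊥ : IntermediateField σ.fieldRange F) := by
    rw [IsGalois.mem_bot_iff_fixed]
    intro g
    obtain ⟨h, rfl⟩ := h3.2 g
    exact hφ h
  rw [IntermediateField.mem_bot] at h5
  obtain ⟨⟨y, x, hx⟩, hy⟩ := h5
  exact ⟨x, hx.trans hy⟩

end Groth.Agent.Sga7.H761.FixField
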