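import Groth.Agent.Grpsch.GrowthMain
import Mathlib.AlgebraicGeometry.Morphisms.Flat
import Mathlib.RingTheory.Flat.FaithfullyFlat.Algebra
import Mathlib.AlgebraicGeometry.Morphisms.Separated

/-!
# The action of endomorphisms on the function field
-/

set_option autoImplicit false
universe u

open AlgebraicGeometry CategoryTheory CategoryTheory.Limits TopologicalSpace Opposite
open Groth.Agent.Dix.Center Groth.Agent.Grpsch.GrowthFF Groth.Agent.Grpsch.GrowthPull

namespace Groth.Agent.Sga7.H761.FunSig

variable {X : Scheme.{u}} [AlgebraicGeometry.IsIntegral X]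

lemma exists_germ (φ : X.functionField) : ∃ (U : X.Opens) (hU : genericPoint X ∈ U)
    (s : Γ(X, U)), X.presheaf.germ U (genericPoint X) hU s = φ := by
  obtain ⟨U, hU, s, hs⟩ := X.presheaf.exists_germ_eq φ
  exact ⟨U, hU, s, hs⟩

lemma sig_id (h : (𝟙 X : X ⟶ X) (genericPoint X) = genericPoint X) (φ : X.functionField) :
    sig (𝟙 X) h φ = φ := by
  obtain ⟨U, hU, s, rfl⟩ := exists_germ φ
  rw [sig_germ (𝟙 X) h U hU hU s, Scheme.Hom.id_app]
  rfl

lemma sig_comp (f g : X ⟶ X) (hf : f (genericPoint X) = genericPoint X)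
    (hg : g (genericPoint X) = genericPoint X)
    (hfg : (f ≫ g) (genericPoint X) = genericPoint X) (φ : X.functionField) :
    sig (f ≫ g) hfg φ = sig f hf (sig g hg φ) := by
  obtain ⟨U, hU, s, rfl⟩ := exists_germ φ
  have h1 : genericPoint X ∈ g ⁻¹ᵁ U := by
    change g (genericPoint X) ∈ U
    rw [hg]; exact hU
  have h2 : genericPoint X ∈ f ⁻¹ᵁ (g ⁻¹ᵁ U) := by
    change f (genericPoint X) ∈ g ⁻¹ᵁ U
    rw [hf]; exact h1
  rw [sig_germ (f ≫ g) hfg U hU h2, sig_germ g hg U hU h1, sig_germ f hf (g ⁻¹ᵁ U) h1 h2,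
    Scheme.Hom.comp_app]
  rfl

lemma sig_congr {f g : X ⟶ X} (h : f = g) (hf : f (genericPoint X) = genericPoint X)
    (hg : g (genericPoint X) = genericPoint X) (φ : X.functionField) :
    sig f hf φ = sig g hg φ := by
  subst h; rfl

/-- Faithfully flat descent of regularity at a point. -/
lemma mem_O_of_sig_mem (f : X ⟶ X) [Flat f] (hf : f (genericPoint X) = genericPoint X) {p : X}
    {φ : X.functionField} (h : sig f hf φ ∈ O X p) : φ ∈ O X (f p) := by
  obtain ⟨a, b, hb, rfl⟩ := toK_frac X (f p) φ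
  obtain ⟨c, hc⟩ := h
  have hbK : toK X (f p) b ≠ 0 := by
    intro h0
    exact hb (toK_injective X (f p) (h0.trans (map_zero _).symm))
  have h1 : f.stalkMap p a = c * f.stalkMap p b := by
    apply toK_injective X p
    rw [map_mul, hc, map_div₀, sig_toK, sig_toK, div_mul_cancel₀]
    rw [← sig_toK f hf]
    exact (map_ne_zero _).mpr hbK
  let _ : Algebra (X.presheaf.stalk (f p)) (X.presheaf.stalk p) := (f.stalkMap p).hom.toAlgebra
  have hflat : Module.Flat (X.presheaf.stalk (f p)) (X.presheaf.stalk p) := Flat.stalkMap f p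
  have hloc : IsLocalHom (algebraMap (X.presheaf.stalk (f p)) (X.presheaf.stalk p)) :=
    inferInstanceAs (IsLocalHom (f.stalkMap p).hom)
  have hff : Module.FaithfullyFlat (X.presheaf.stalk (f p)) (X.presheaf.stalk p) :=
    Module.FaithfullyFlat.of_flat_of_isLocalHom
  have h2 : a ∈ ((Ideal.span {b}).map (algebraMap (X.presheaf.stalk (f p)) (X.presheaf.stalk p))).comap
      (algebraMap (X.presheaf.stalk (f p)) (X.presheaf.stalk p)) := by
    rw [Ideal.mem_comap, Ideal.map_span, Set.image_singleton, Ideal.mem_span_singleton]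
    exact ⟨c, h1.trans (mul_comm _ _)⟩
  rw [Ideal.comap_map_eq_self_of_faithfullyFlat, Ideal.mem_span_singleton] at h2
  obtain ⟨d, rfl⟩ := h2
  rw [map_mul, mul_div_cancel_left₀ _ hbK]
  exact toK_mem_O d

/-- an endomorphism which is the identity on the function field is the identity -/
theorem eq_id_of_sig_eq {S : Scheme.{u}} (s : X ⟶ S) [IsSeparated s] (f : X ⟶ X) (hfs : f ≫ s = s)
    (hf : f (genericPoint X) = genericPoint X) (h : ∀ φ, sig f hf φ = φ) : f = 𝟙 X := by
  have h1 : X.fromSpecStalk (genericPoint X) ≫ f = X.fromSpecStalk (genericPoint X) := by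
    rw [← SpecMap_toKY f (genericPoint X) (specializes_of_eq hf)]
    have h2 : CommRingCat.ofHom (toKY f (genericPoint X) (specializes_of_eq hf)) = 𝟙 _ := by
      ext φ
      exact h φ
    rw [h2]
    simp
  have hdom : IsDominant (X.fromSpecStalk (genericPoint X)) := by
    constructor
    rw [DenseRange, Scheme.range_fromSpecStalk]
    have h3 : genericPoint X ∈ {y | y ⤳ genericPoint X} := specializes_rfl
    rw [dense_iff_closure_eq, Set.eq_univ_iff_forall]
    intro x
    exact (closure_mono (Set.singleton_subset_iff.mpr h3))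
      (((genericPoint_spec X).symm ▸ trivial : x ∈ closure {genericPoint X}))
  exact ext_of_isDominant_of_isSeparated s (ι := X.fromSpecStalk (genericPoint X)) (by
    rw [hfs, Category.id_comp]) (by rw [h1, Category.comp_id])

end Groth.Agent.Sga7.H761.FunSig
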