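import Mathlib.RingTheory.Invariant.Profinite
import Mathlib.FieldTheory.Galois.Profinite
import Mathlib.FieldTheory.Galois.Infinite
import Mathlib.RingTheory.IntegralClosure.IntegralRestrict
import Mathlib.RingTheory.LocalRing.ResidueField.Basic

/-!
# Galois theory of the integral closure in an infinite Galois extension

`Ω/E` Galois, `A → E` a ring map, `B` the integral closure of `A` in `Ω`, `G = Gal(Ω/E)`:
transitivity of `G` on primes of `B` with the same trace on `B ∩ E`, and surjectivity of the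
decomposition group onto the automorphisms of `B ⧸ Q` which are trivial on `B ∩ E`.
-/

set_option autoImplicit false

open scoped Pointwise

noncomputable section

namespace Groth.Agent.Sga7.H761.GalInt

section

variable (A E Ω : Type*) [CommRing A] [Field E] [Field Ω] [Algebra A E] [Algebra E Ω]
  [Algebra A Ω] [IsScalarTower A E Ω] [IsGalois E Ω]

/-- The integral closure of `A` in `Ω`. -/
abbrev B := integralClosure A Ω

omit [IsGalois E Ω] in
lemma smulCommClass_G : SMulCommClass (Gal(Ω/E)) A Ω where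
  smul_comm g a x := by
    rw [Algebra.smul_def, Algebra.smul_def, IsScalarTower.algebraMap_apply A E Ω]
    simp

attribute [local instance] smulCommClass_G

/-- The elements of `B` fixed by `G`. -/
abbrev A₀ : Subalgebra A (B A Ω) := FixedPoints.subalgebra A (B A Ω) (Gal(Ω/E))

omit [IsGalois E Ω] in
lemma smulCommClass_A₀ : SMulCommClass (Gal(Ω/E)) (A₀ A E Ω) (B A Ω) where
  smul_comm g a x := by
    rw [Algebra.smul_def, smul_mul', Algebra.smul_def]
    congr 1
    exact a.2 g

attribute [local instance] smulCommClass_A₀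

omit [IsGalois E Ω] in
lemma isInvariant_A₀ : Algebra.IsInvariant (A₀ A E Ω) (B A Ω) (Gal(Ω/E)) where
  isInvariant b hb := ⟨⟨b, hb⟩, rfl⟩

attribute [local instance] isInvariant_A₀

/-- The discrete topology on `B`, to be used locally. -/
@[implicit_reducible]
def topB : TopologicalSpace (B A Ω) := ⊥

lemma continuousSMul_B : letI := topB A Ω; ContinuousSMul (Gal(Ω/E)) (B A Ω) := by
  let _ := topB A Ω
  have : DiscreteTopology (B A Ω) := ⟨rfl⟩
  rw [continuousSMul_iff_stabilizer_isOpen]
  intro x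
  convert! stabilizer_isOpen_of_isIntegral (K := E) (L := Ω) (x : Ω) using 1
  ext g
  simp only [SetLike.mem_coe, MulAction.mem_stabilizer_iff]
  constructor
  · intro h; exact congrArg Subtype.val h
  · intro h; exact Subtype.ext h

variable {A E Ω}

/-- An element of `B` fixed by `G` lies in `E`. -/
lemma mem_range_of_fixed (x : B A Ω) (hx : ∀ g : Gal(Ω/E), g • x = x) :
    ∃ e : E, algebraMap E Ω e = x := by
  rw [← Set.mem_range, ← IntermediateField.mem_bot, InfiniteGalois.mem_bot_iff_fixed]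
  intro σ
  exact congrArg Subtype.val (hx σ)

lemma exists_smul_eq (P Q : Ideal (B A Ω)) [P.IsPrime] [Q.IsPrime]
    (h : ∀ x : B A Ω, (∃ e : E, algebraMap E Ω e = x) → (x ∈ P ↔ x ∈ Q)) :
    ∃ g : Gal(Ω/E), Q = g • P := by
  let _ := topB A Ω
  have : DiscreteTopology (B A Ω) := ⟨rfl⟩
  have := continuousSMul_B A E Ω
  refine Algebra.IsInvariant.exists_smul_of_under_eq_of_profinite (A := A₀ A E Ω) P Q ?_
  ext x
  exact h x.1 (mem_range_of_fixed x.1 x.2)

lemma exists_smul_of_ringEquiv (Q : Ideal (B A Ω)) [Q.IsPrime] (σ : (B A Ω ⧸ Q) ≃+* (B A Ω ⧸ Q))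
    (h : ∀ x : B A Ω, (∃ e : E, algebraMap E Ω e = x) →
      σ (Ideal.Quotient.mk Q x) = Ideal.Quotient.mk Q x) :
    ∃ g : Gal(Ω/E), g • Q = Q ∧ ∀ x : B A Ω,
      Ideal.Quotient.mk Q (g • x) = σ (Ideal.Quotient.mk Q x) := by
  let _ := topB A Ω
  have : DiscreteTopology (B A Ω) := ⟨rfl⟩
  have := continuousSMul_B A E Ω
  let P : Ideal (A₀ A E Ω) := Q.under (A₀ A E Ω)
  have : Q.LiesOver P := ⟨rfl⟩
  let σ' : (B A Ω ⧸ Q) ≃ₐ[A₀ A E Ω ⧸ P] (B A Ω ⧸ Q) :=
    { σ with
      commutes' := by
        intro r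
        obtain ⟨r, rfl⟩ := Ideal.Quotient.mk_surjective r
        exact h r.1 (mem_range_of_fixed r.1 r.2) }
  obtain ⟨g, hg⟩ := Ideal.Quotient.stabilizerHom_surjective_of_profinite (G := Gal(Ω/E)) P Q σ'
  refine ⟨g.1, g.2, fun x => ?_⟩
  have := DFunLike.congr_fun hg (Ideal.Quotient.mk Q x)
  exact this

end

end Groth.Agent.Sga7.H761.GalInt
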