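import Groth.Prelude.Def_SGA7a
import Groth.Agent.Etalg.RamDict
import Groth.Agent.Sga7.H761.GalInt
import Mathlib.FieldTheory.Normal.Basic
import Mathlib.RingTheory.DedekindDomain.IntegralClosure

/-!
# Lifting elements of inertia groups from finite levels

`R` a DVR with fraction field `K`, `Ω/K` Galois, `W` a valuation subring of `Ω` over `R`, `E/K` a
normal subextension: an automorphism `σ₀` of `E/K` acting trivially on `B_E` modulo the centre of
`W` is the restriction of an element of the inertia group at `W`.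
-/

set_option autoImplicit false
universe u

open scoped Pointwise

noncomputable section

namespace Groth.Agent.Sga7.H761.InertiaLift

open SGA7 Groth.Agent.Sga7.H761.GalInt

section basic

variable {F : Type*} [Field F] (V : ValuationSubring F)

lemma val_lt_one_iff {y : F} (hy : y ≠ 0) : V.valuation y < 1 ↔ y⁻¹ ∉ V := by
  rw [← ValuationSubring.valuation_le_one_iff, map_inv₀, not_le, one_lt_inv₀]
  exact zero_lt_iff.mpr ((V.valuation.ne_zero_iff).mpr hy)

lemma comap_val_lt_one_iff {F' : Type*} [Field F'] (f : F' →+* F) (y : F') :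
    (V.comap f).valuation y < 1 ↔ V.valuation (f y) < 1 := by
  by_cases hy : y = 0
  · subst hy; simp
  · rw [val_lt_one_iff _ hy, val_lt_one_iff _ (by simpa using hy), ← map_inv₀]
    rfl

lemma mem_of_isIntegral {A : Type*} [CommRing A] [Algebra A F] (h : ∀ a : A, algebraMap A F a ∈ V)
    {c : F} (hc : IsIntegral A c) : c ∈ V := by
  let _ : Algebra A V := ((algebraMap A F).codRestrict V h).toAlgebra
  have : IsScalarTower A V F := IsScalarTower.of_algebraMap_eq' rfl
  have h2 : IsIntegral V c := hc.tower_top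
  obtain ⟨v, hv⟩ := IsIntegrallyClosed.algebraMap_eq_of_integral h2
  rw [← hv]
  exact v.2

end basic

variable {R K Ω : Type u} [CommRing R] [IsDomain R] [IsDiscreteValuationRing R] [Field K]
  [Algebra R K] [IsFractionRing R K] [Field Ω] [Algebra K Ω]
  [Algebra R Ω] [IsScalarTower R K Ω]

/-- `W` is the localization of the integral closure of `R` in `Ω` at its centre. -/
lemma exists_frac [Algebra.IsSeparable K Ω] (W : ValuationSubring Ω) (hW : LiesOver K R W)
    {x : Ω} (hx : x ∈ W) :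
    ∃ b s : Ω, IsIntegral R b ∧ IsIntegral R s ∧ W.valuation s = 1 ∧ x * s = b := by
  let E : IntermediateField K Ω := IntermediateField.adjoin K {x}
  have hxint : IsIntegral K x := Algebra.IsIntegral.isIntegral x
  have hfin : FiniteDimensional K E := IntermediateField.adjoin.finiteDimensional hxint
  have htow : IsScalarTower R E Ω := IsScalarTower.of_algebraMap_eq fun r => by
    rw [IsScalarTower.algebraMap_apply R K E, ← IsScalarTower.algebraMap_apply K E Ω,
      ← IsScalarTower.algebraMap_apply R K Ω]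
  let C := integralClosure R E
  have hfrac : IsFractionRing C E := IsIntegralClosure.isFractionRing_of_finite_extension R K E C
  have hded : IsDedekindDomain C := IsIntegralClosure.isDedekindDomain R K E C
  have hinj : Function.Injective (algebraMap R E) := by
    rw [IsScalarTower.algebraMap_eq R K E]
    exact (algebraMap K E).injective.comp (IsFractionRing.injective R K)
  let V : ValuationSubring E := W.comap (algebraMap E Ω)
  have hmap : ∀ r : R, algebraMap E Ω (algebraMap R E r) = algebraMap K Ω (algebraMap R K r) := by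
    intro r
    rw [← IsScalarTower.algebraMap_apply, ← IsScalarTower.algebraMap_apply]
  have hV : EtRam.Dominates R (algebraMap R E) V := by
    refine ⟨fun r => ?_, fun r hr => ?_⟩
    · change algebraMap E Ω (algebraMap R E r) ∈ W
      rw [hmap]
      exact hW.1 r
    · rw [comap_val_lt_one_iff, hmap]
      exact hW.2 r hr
  have hloc := Groth.Agent.Etalg.RamDict.isLocalization_atPrime C hinj hV
  let _ : Algebra C V := (Groth.Agent.Etalg.RamDict.toV C hV.1).toAlgebra
  let x' : V := ⟨⟨x, IntermediateField.mem_adjoin_simple_self K x⟩, hx⟩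
  obtain ⟨⟨b, s⟩, hbs⟩ := IsLocalization.surj
    (M := (Groth.Agent.Etalg.RamDict.center C hV.1).primeCompl) x'
  refine ⟨algebraMap E Ω (b : E), algebraMap E Ω (s.1 : E), ?_, ?_, ?_, ?_⟩
  · exact (b.2 : IsIntegral R (b : E)).map (IsScalarTower.toAlgHom R E Ω)
  · exact (s.1.2 : IsIntegral R (s.1 : E)).map (IsScalarTower.toAlgHom R E Ω)
  · have h1 : ¬ V.valuation (s.1 : E) < 1 := by
      have h2 := s.2
      intro h3
      exact h2 ((Groth.Agent.Etalg.RamDict.mem_center_iff hV.1 s.1).mpr h3)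
    rw [comap_val_lt_one_iff] at h1
    refine le_antisymm ?_ (not_lt.mp h1)
    rw [ValuationSubring.valuation_le_one_iff]
    refine mem_of_isIntegral W (A := R) (fun r => ?_)
      ((s.1.2 : IsIntegral R (s.1 : E)).map (IsScalarTower.toAlgHom R E Ω))
    rw [IsScalarTower.algebraMap_apply R K Ω]
    exact hW.1 r
  · have h1 := congrArg (fun v : V => algebraMap E Ω (v : E)) hbs
    exact h1

/-- Lifting inertia elements. -/
theorem exists_lift [IsGalois K Ω] (W : ValuationSubring Ω) (hW : LiesOver K R W)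
    (E : Type u) [Field E] [Algebra K E] [Algebra E Ω] [IsScalarTower K E Ω] [Normal K E]
    [Algebra R E] [IsScalarTower R E Ω]
    (σ₀ : E ≃ₐ[K] E)
    (hσ₀ : ∀ x : E, IsIntegral R x → W.valuation (algebraMap E Ω (σ₀ x) - algebraMap E Ω x) < 1) :
    ∃ σ : Ω ≃ₐ[K] Ω, IsInertia W σ ∧ ∀ x : E, σ (algebraMap E Ω x) = algebraMap E Ω (σ₀ x) := by
  have hRW : ∀ r : R, algebraMap R Ω r ∈ W := fun r => by
    rw [IsScalarTower.algebraMap_apply R K Ω]; exact hW.1 r
  have hBW : ∀ b : B R Ω, (b : Ω) ∈ W := fun b => mem_of_isIntegral W hRW b.2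
  let ψ : B R Ω →+* W := (B R Ω).val.toRingHom.codRestrict W hBW
  let Q : Ideal (B R Ω) := (IsLocalRing.maximalIdeal W).comap ψ
  have hQ : ∀ b : B R Ω, b ∈ Q ↔ W.valuation (b : Ω) < 1 := fun b => by
    change ψ b ∈ IsLocalRing.maximalIdeal W ↔ _
    rw [ValuationSubring.valuation_lt_one_iff]
    rfl
  have hgal : IsGalois E Ω := IsGalois.tower_top_of_isGalois K E Ω
  -- the action of an element of `Gal(Ω/K)` on `B`
  have hact : ∀ σ : Ω ≃ₐ[K] Ω, ∀ b : Ω, IsIntegral R b → IsIntegral R (σ b) := fun σ b hb =>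
    hb.map (σ.restrictScalars R).toAlgHom
  let actB : (Ω ≃ₐ[K] Ω) → (B R Ω ≃+* B R Ω) := fun σ =>
    { toFun := fun b => ⟨σ b, hact σ b b.2⟩
      invFun := fun b => ⟨σ.symm b, hact σ.symm b b.2⟩
      left_inv := fun b => Subtype.ext (σ.symm_apply_apply b)
      right_inv := fun b => Subtype.ext (σ.apply_symm_apply b)
      map_mul' := fun a b => Subtype.ext (map_mul σ _ _)
      map_add' := fun a b => Subtype.ext (map_add σ _ _) }
  have hactB : ∀ σ b, ((actB σ b : B R Ω) : Ω) = σ b := fun _ _ => rfl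
  -- a first lift
  obtain ⟨σ₁, hσ₁⟩ : ∃ σ₁ : Ω ≃ₐ[K] Ω, ∀ x : E, σ₁ (algebraMap E Ω x) = algebraMap E Ω (σ₀ x) :=
    ⟨σ₀.liftNormal Ω, fun x => AlgEquiv.liftNormal_commutes _ _ _⟩
  -- integrality of elements of `E`
  have hintE : ∀ x : E, IsIntegral R (algebraMap E Ω x) → IsIntegral R x := fun x hx =>
    (isIntegral_algHom_iff (IsScalarTower.toAlgHom R E Ω) (algebraMap E Ω).injective).mp hx
  -- the prime pulled back by `σ₁`
  let Q₁ : Ideal (B R Ω) := Q.comap (actB σ₁ : B R Ω →+* B R Ω)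
  have hQ₁ : ∀ b : B R Ω, b ∈ Q₁ ↔ W.valuation (σ₁ b) < 1 := fun b => hQ (actB σ₁ b)
  obtain ⟨g, hg⟩ := exists_smul_eq (E := E) Q₁ Q (by
    rintro x ⟨e, he⟩
    have h1 := hσ₀ e (hintE e (he ▸ x.2))
    rw [hQ, hQ₁, ← he, hσ₁]
    constructor
    · intro h2
      have h3 : algebraMap E Ω e = algebraMap E Ω (σ₀ e) -
        (algebraMap E Ω (σ₀ e) - algebraMap E Ω e) := by ring
      rw [h3]
      exact (Valuation.map_sub _ _ _).trans_lt (max_lt h2 h1)
    · intro h2
      have h3 : algebraMap E Ω (σ₀ e) = (algebraMap E Ω (σ₀ e) - algebraMap E Ω e) +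
        algebraMap E Ω e := by ring
      rw [h3]
      exact (Valuation.map_add _ _ _).trans_lt (max_lt h1 h2))
  let toK : Gal(Ω/E) → (Ω ≃ₐ[K] Ω) := fun g => g.restrictScalars K
  -- the second lift
  let σ₂ : Ω ≃ₐ[K] Ω := (toK g⁻¹).trans σ₁
  have hσ₂ : ∀ x, σ₂ x = σ₁ (g⁻¹ x) := fun x => rfl
  have hσ₂E : ∀ x : E, σ₂ (algebraMap E Ω x) = algebraMap E Ω (σ₀ x) := fun x => by
    rw [hσ₂, AlgEquiv.commutes, hσ₁]
  have hσ₂Q : ∀ b : B R Ω, b ∈ Q ↔ actB σ₂ b ∈ Q := by
    intro b
    rw [hQ (actB σ₂ b), hactB, hσ₂]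
    conv_lhs => rw [hg, ← inv_inv g, Ideal.mem_inv_pointwise_smul_iff]
    rw [hQ₁]
    rfl
  let σbar : (B R Ω ⧸ Q) ≃+* (B R Ω ⧸ Q) := Ideal.quotientEquiv Q Q (actB σ₂) (by
    ext b
    refine Iff.trans ?_ (Ideal.mem_map_iff_of_surjective (actB σ₂ : B R Ω →+* B R Ω)
      (actB σ₂).surjective).symm
    constructor
    · intro hb
      refine ⟨(actB σ₂).symm b, ?_, (actB σ₂).apply_symm_apply b⟩
      rw [hσ₂Q, (actB σ₂).apply_symm_apply]
      exact hb
    · rintro ⟨c, hc, rfl⟩
      exact (hσ₂Q c).mp hc)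
  have hσbar : ∀ b, σbar (Ideal.Quotient.mk Q b) = Ideal.Quotient.mk Q (actB σ₂ b) := fun b => rfl
  obtain ⟨h, hhQ, hh⟩ := exists_smul_of_ringEquiv (E := E) Q σbar (by
    rintro x ⟨e, he⟩
    rw [hσbar, Ideal.Quotient.eq, hQ]
    change W.valuation (σ₂ x - x) < 1
    rw [← he, hσ₂E]
    exact hσ₀ e (hintE e (he ▸ x.2)))
  let σ : Ω ≃ₐ[K] Ω := σ₂.trans (toK h⁻¹)
  have hσ : ∀ x, σ x = h⁻¹ (σ₂ x) := fun x => rfl
  have hσE : ∀ x : E, σ (algebraMap E Ω x) = algebraMap E Ω (σ₀ x) := fun x => by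
    rw [hσ, hσ₂E, AlgEquiv.commutes]
  -- `σ` is trivial modulo `Q`
  have hσQ : ∀ b : Ω, IsIntegral R b → W.valuation (σ b - b) < 1 := by
    intro b hb
    have h1 := hh ⟨b, hb⟩
    rw [hσbar, Ideal.Quotient.eq] at h1
    have h2 : h⁻¹ • ((h • (⟨b, hb⟩ : B R Ω)) - actB σ₂ ⟨b, hb⟩) ∈ Q := by
      have h3 : h⁻¹ • Q = Q := by
        conv_lhs => rw [← hhQ]
        exact inv_smul_smul h Q
      rw [← h3]
      exact Ideal.smul_mem_pointwise_smul _ _ _ h1
    rw [hQ] at h2
    have h4 : ((h⁻¹ • ((h • (⟨b, hb⟩ : B R Ω)) - actB σ₂ ⟨b, hb⟩) : B R Ω) : Ω) = b - σ b := by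
      rw [smul_sub, inv_smul_smul]
      rfl
    rw [h4] at h2
    rw [Valuation.map_sub_swap]
    exact h2
  have hle : ∀ b : Ω, IsIntegral R b → W.valuation b ≤ 1 := fun b hb =>
    (W.valuation_le_one_iff b).mpr (mem_of_isIntegral W hRW hb)
  refine ⟨σ, ?_, hσE⟩
  intro x hx
  obtain ⟨b, s, hb, hs, hs1, hxs⟩ := exists_frac W hW hx
  have hs0 : s ≠ 0 := by
    rintro rfl
    simp at hs1
  have hσs : W.valuation (σ s) = 1 := by
    have h1 : σ s = s + (σ s - s) := by ring
    rw [h1, Valuation.map_add_eq_of_lt_left _ (by rw [hs1]; exact hσQ s hs), hs1]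
  have hσs0 : σ s ≠ 0 := by simpa using hs0
  have hx' : x = b / s := by rw [← hxs]; field_simp
  constructor
  · rw [← W.valuation_le_one_iff, hx', map_div₀, map_div₀, hσs, div_one]
    exact hle _ (hact σ b hb)
  · have h1 : σ x - x = ((σ b - b) * s - b * (σ s - s)) / (σ s * s) := by
      rw [hx', map_div₀]
      field_simp
      ring
    rw [h1, map_div₀, map_mul, hσs, hs1, mul_one, div_one]
    refine (Valuation.map_sub _ _ _).trans_lt (max_lt ?_ ?_)
    · rw [map_mul, hs1, mul_one]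
      exact hσQ b hb
    · rw [map_mul]
      exact (mul_le_of_le_one_left' (hle b hb)).trans_lt (hσQ s hs)

end Groth.Agent.Sga7.H761.InertiaLift
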