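import Groth.Agent.Sga7.H750.SecComp

/-!
# Sections of open subgroup schemes

`R` a Noetherian local ring, `u : G ⟶ N` a homomorphism of group schemes over `R` which is an open immersion, `N` of
finite type.  Then `G(R)` has finite index in `N(R)` (`exists_finset`), and a divisible torsion
subgroup of `N(R)` (`N` commutative) is contained in `G(R)` (`exists_lift_of_divisible`).
-/

set_option autoImplicit false

universe u

open CategoryTheory CategoryTheory.Limits AlgebraicGeometry MonObj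
open MonoidalCategory CartesianMonoidalCategory

namespace Groth.Agent.Sga7.H761.OpenSubSec

open Groth.Agent.Sga7.H750.SecComp

section

variable {R : Type u} [CommRing R] {G N : Over (Spec (CommRingCat.of R))} [GrpObj G] [GrpObj N]
  (u : G ⟶ N) [IsMonHom u]

/-- The map on sections. -/
noncomputable def secMap : (𝟙_ (Over (Spec (CommRingCat.of R))) ⟶ G) →* (𝟙_ (Over (Spec (CommRingCat.of R))) ⟶ N) where
  toFun x := x ≫ u
  map_one' := MonObj.one_comp u
  map_mul' a b := MonObj.mul_comp a b u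

omit [GrpObj G] [GrpObj N] [IsMonHom u] in
/-- A section of `N` whose value at the closed point lies in the open subscheme `G` is a section of `G`. -/
theorem exists_lift [IsLocalRing R] [IsOpenImmersion u.left] (x : 𝟙_ (Over (Spec (CommRingCat.of R))) ⟶ N)
    (hx : x.left (IsLocalRing.closedPoint R) ∈ Set.range u.left) :
    ∃ y : 𝟙_ (Over (Spec (CommRingCat.of R))) ⟶ G, y ≫ u = x := by
  have hr : Set.range x.left ⊆ Set.range u.left := by
    rintro _ ⟨t, rfl⟩
    have h1 : (show Spec (CommRingCat.of R) from t) ⤳ IsLocalRing.closedPoint R :=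
      IsLocalRing.specializes_closedPoint t
    have h2 : x.left t ⤳ x.left (IsLocalRing.closedPoint R) := h1.map x.left.continuous
    exact h2.mem_open u.left.isOpenEmbedding.isOpen_range hx
  have h1 : IsOpenImmersion.lift u.left x.left hr ≫ u.left = x.left := IsOpenImmersion.lift_fac _ _ _
  refine ⟨Over.homMk (IsOpenImmersion.lift u.left x.left hr) ?_, ?_⟩
  · have h2 : u.left ≫ N.hom = G.hom := Over.w u
    rw [← h2, ← Category.assoc, h1]
    exact Over.w x
  · ext1
    exact h1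

theorem mem_range_secMap_iff [IsLocalRing R] [IsOpenImmersion u.left]
    (x : 𝟙_ (Over (Spec (CommRingCat.of R))) ⟶ N) :
    x ∈ (secMap u).range ↔ x.left (IsLocalRing.closedPoint R) ∈ Set.range u.left := by
  constructor
  · rintro ⟨y, rfl⟩
    exact ⟨y.left (IsLocalRing.closedPoint R), (Scheme.Hom.comp_apply _ _ _).symm⟩
  · intro h
    obtain ⟨y, hy⟩ := exists_lift u x h
    exact ⟨y, hy⟩

/-- The sections of an open subgroup scheme have finite index. -/
theorem exists_finset [IsLocalRing R] [IsNoetherianRing R]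
    [IsOpenImmersion u.left] [LocallyOfFiniteType N.hom] [QuasiCompact N.hom] :
    ∃ t : Finset (𝟙_ (Over (Spec (CommRingCat.of R))) ⟶ N), ∀ y, ∃ x ∈ t, x * y⁻¹ ∈ (secMap u).range := by
  classical
  have hNs := noetherianSpace N
  let F : Set N.left := SGA7.specialFibreSet R N
  -- the translates
  let O : (𝟙_ (Over (Spec (CommRingCat.of R))) ⟶ N) → Set N.left := fun y => (rT y).inv.left ⁻¹' Set.range u.left
  have hO : ∀ y, IsOpen (O y) := fun y => u.left.isOpenEmbedding.isOpen_range.preimage (rT y).inv.left.continuous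
  have hmem : ∀ y z : 𝟙_ (Over (Spec (CommRingCat.of R))) ⟶ N,
      z.left (IsLocalRing.closedPoint R) ∈ O y ↔ z * y⁻¹ ∈ (secMap u).range := by
    intro y z
    rw [mem_range_secMap_iff]
    have h1 : z * y⁻¹ = z ≫ (rT y).inv := (sec_comp_rTHom z y⁻¹).symm
    rw [h1, Over.comp_left, Scheme.Hom.comp_apply]
    rfl
  have hself : ∀ y, y.left (IsLocalRing.closedPoint R) ∈ O y := fun y => by
    rw [hmem, mul_inv_cancel]
    exact one_mem _
  have hc : IsCompact ((⋃ y, O y) ∩ F) := TopologicalSpace.NoetherianSpace.isCompact _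
  obtain ⟨t, ht⟩ := hc.elim_finite_subcover O hO Set.inter_subset_left
  refine ⟨t, fun y => ?_⟩
  have h1 : y.left (IsLocalRing.closedPoint R) ∈ ⋃ i ∈ t, O i :=
    ht ⟨Set.mem_iUnion.2 ⟨y, hself y⟩, section_mem_specialFibreSet N y⟩
  obtain ⟨x, hx, hy⟩ := Set.mem_iUnion₂.1 h1
  refine ⟨x, hx, ?_⟩
  have h2 := (hmem x y).1 hy
  have h3 : x * y⁻¹ = (y * x⁻¹)⁻¹ := by rw [mul_inv_rev, inv_inv]
  rw [h3]
  exact inv_mem h2

end

section Div

/-- A divisible `l`-primary torsion subgroup is contained in every subgroup of finite index. -/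
theorem le_of_divisible {P : Type*} [Group P] (hc : ∀ a b : P, a * b = b * a) (H : Subgroup P)
    (hH : ∃ t : Finset P, ∀ y, ∃ x ∈ t, x * y⁻¹ ∈ H) (E : Subgroup P) {l : ℕ} (hl : l.Prime)
    (htor : ∀ x ∈ E, ∃ n : ℕ, x ^ (l ^ n) = 1) (hdiv : ∀ x ∈ E, ∃ y ∈ E, y ^ l = x) : E ≤ H := by
  have hN : H.Normal := ⟨fun n hn g => by rwa [hc g n, mul_inv_cancel_right]⟩
  obtain ⟨t, ht⟩ := hH
  have hfin : Finite (P ⧸ H) := by
    refine Finite.of_surjective (fun x : t => ((x : P) : P ⧸ H)) fun q => ?_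
    obtain ⟨y, rfl⟩ := QuotientGroup.mk_surjective q
    obtain ⟨x, hx, hxy⟩ := ht y
    refine ⟨⟨x, hx⟩, ?_⟩
    change (x : P ⧸ H) = y
    rw [QuotientGroup.eq]
    have h1 : x⁻¹ * y = (x * y⁻¹)⁻¹ := by rw [mul_inv_rev, inv_inv, hc]
    rw [h1]
    exact inv_mem hxy
  have hidx : H.index ≠ 0 := Subgroup.index_ne_zero_of_finite
  -- divisibility
  have hdivl : ∀ (a : ℕ), ∀ x ∈ E, ∃ y ∈ E, y ^ (l ^ a) = x := by
    intro a
    induction a with
    | zero => exact fun x hx => ⟨x, hx, by simp⟩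
    | succ a ih =>
      intro x hx
      obtain ⟨y, hy, hyx⟩ := hdiv x hx
      obtain ⟨z, hz, hzy⟩ := ih y hy
      exact ⟨z, hz, by rw [pow_succ, pow_mul, hzy, hyx]⟩
  intro x hx
  obtain ⟨a, m', hm', hm⟩ := Nat.exists_eq_pow_mul_and_not_dvd hidx l hl.ne_one
  obtain ⟨y, hy, hyx⟩ := hdivl a x hx
  obtain ⟨n, hn⟩ := htor y hy
  have h1 : x ^ m' ∈ H := by
    have h2 : y ^ H.index ∈ H := H.pow_index_mem y
    rwa [hm, pow_mul, hyx] at h2
  have h3 : x ^ (l ^ n) ∈ H := by
    rw [← hyx, ← pow_mul, _root_.mul_comm, pow_mul, hn, one_pow]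
    exact one_mem _
  have hcop : Nat.Coprime m' (l ^ n) := (((Nat.Prime.coprime_iff_not_dvd hl).2 hm').symm).pow_right n
  have h4 : x = (x ^ m') ^ (Nat.gcdA m' (l ^ n)) * (x ^ (l ^ n)) ^ (Nat.gcdB m' (l ^ n)) := by
    have h5 := Nat.gcd_eq_gcd_ab m' (l ^ n)
    rw [hcop.gcd_eq_one] at h5
    rw [← zpow_natCast x m', ← zpow_natCast x (l ^ n), ← zpow_mul, ← zpow_mul, ← zpow_add, ← h5]
    simp
  rw [h4]
  exact mul_mem (zpow_mem h1 _) (zpow_mem h3 _)

variable {R : Type u} [CommRing R] [IsLocalRing R] [IsNoetherianRing R] {G N : Over (Spec (CommRingCat.of R))}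
  [GrpObj G] [GrpObj N] (u : G ⟶ N) [IsMonHom u]

/-- Divisible torsion sections of `N` are sections of the open subgroup scheme `G`. -/
theorem exists_lift_of_divisible [IsOpenImmersion u.left] [LocallyOfFiniteType N.hom] [QuasiCompact N.hom]
    [IsCommMonObj N] (E : Subgroup (𝟙_ (Over (Spec (CommRingCat.of R))) ⟶ N)) {l : ℕ} (hl : l.Prime)
    (htor : ∀ x ∈ E, ∃ n : ℕ, x ^ (l ^ n) = 1) (hdiv : ∀ x ∈ E, ∃ y ∈ E, y ^ l = x) (x : 𝟙_ _ ⟶ N)
    (hx : x ∈ E) : ∃ z : 𝟙_ (Over (Spec (CommRingCat.of R))) ⟶ G, z ≫ u = x :=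
  le_of_divisible (fun a b => _root_.mul_comm a b) (secMap u).range (exists_finset u) E hl htor hdiv hx

end Div

end Groth.Agent.Sga7.H761.OpenSubSec
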