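import Groth.Agent.Sga7.H761.ScalarPow
import Mathlib.Algebra.Algebra.Equiv
import Mathlib.Tactic.FieldSimp
import Mathlib.Tactic.Ring

/-!
# The Weil pairing argument, abstractly

`F/K` a field extension ("function field"), `O p ⊆ F` subrings ("local rings") with `⋂ O p = K`, a
commutative group `G` acting compatibly.
-/

set_option autoImplicit false

namespace Groth.Agent.Sga7.H761.PairCore

/-- Local rings in a function field with a group acting by translations. -/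
structure Core (K F X G : Type*) [Field K] [Field F] [Algebra K F] [CommGroup G] where
  O : X → Subring F
  τ : G →* (F ≃ₐ[K] F)
  act : G → X → X
  act_one : ∀ p, act 1 p = p
  act_mul : ∀ v w p, act (v * w) p = act w (act v p)
  mem_range : ∀ φ : F, (∀ p, φ ∈ O p) → ∃ c : K, algebraMap K F c = φ
  algebraMap_mem : ∀ (c : K) p, algebraMap K F c ∈ O p
  map_mem : ∀ v p φ, φ ∈ O (act v p) → τ v φ ∈ O p

variable {K F X G : Type*} [Field K] [Field F] [Algebra K F] [CommGroup G] (D : Core K F X G)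

/-- `φ` is a unit at `p`. -/
def IsU (p : X) (φ : F) : Prop := φ ≠ 0 ∧ φ ∈ D.O p ∧ φ⁻¹ ∈ D.O p

variable {D}

lemma IsU.mul {p : X} {φ ψ : F} (h : IsU D p φ) (h' : IsU D p ψ) : IsU D p (φ * ψ) :=
  ⟨mul_ne_zero h.1 h'.1, (D.O p).mul_mem h.2.1 h'.2.1, by
    rw [mul_inv]; exact (D.O p).mul_mem h.2.2 h'.2.2⟩

lemma IsU.inv {p : X} {φ : F} (h : IsU D p φ) : IsU D p φ⁻¹ :=
  ⟨inv_ne_zero h.1, h.2.2, by rw [inv_inv]; exact h.2.1⟩

lemma IsU.pow {p : X} {φ : F} (h : IsU D p φ) (k : ℕ) : IsU D p (φ ^ k) :=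
  ⟨pow_ne_zero k h.1, (D.O p).pow_mem h.2.1 k, by
    rw [← inv_pow]; exact (D.O p).pow_mem h.2.2 k⟩

lemma IsU.map {v : G} {p : X} {φ : F} (h : IsU D (D.act v p) φ) : IsU D p (D.τ v φ) :=
  ⟨(map_ne_zero _).mpr h.1, D.map_mem _ _ _ h.2.1, by
    rw [← map_inv₀]; exact D.map_mem _ _ _ h.2.2⟩

lemma exists_const {φ : F} (h : ∀ p, IsU D p φ) (h0 : φ ≠ 0) :
    ∃ c : K, c ≠ 0 ∧ algebraMap K F c = φ := by
  obtain ⟨c, hc⟩ := D.mem_range φ fun p => (h p).2.1
  refine ⟨c, ?_, hc⟩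
  rintro rfl
  rw [map_zero] at hc
  exact h0 hc.symm

section weil

variable (σ : F →ₐ[K] F) (ν : X → X) (n : ℕ)

/-- **Weil pairing argument.** -/
theorem exists_descent (hν : Function.Surjective ν) (hσ : ∀ p φ, σ φ ∈ D.O p → φ ∈ D.O (ν p))
    (hτσ : ∀ y : G, y ^ n = 1 → ∀ φ, D.τ y (σ φ) = σ φ)
    (hact : ∀ y : G, y ^ n = 1 → ∀ p, ν (D.act y p) = ν p)
    (hfix : ∀ φ, (∀ y : G, y ^ n = 1 → D.τ y φ = φ) → ∃ ψ, σ ψ = φ)
    (γ : X → F) (w : G) (h : F) (hh : h ≠ 0)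
    (hrel : ∀ p, IsU D p (σ (γ (ν p)) * h * (σ (D.τ w (γ (D.act w (ν p)))))⁻¹))
    (P : ℕ) (hP : ∀ c : K, c ^ n = 1 → c ^ P = 1) :
    ∃ f : F, f ≠ 0 ∧ ∀ b, IsU D b (γ b ^ P * f * (D.τ w (γ (D.act w b)) ^ P)⁻¹) := by
  have h1 : ∀ y : G, y ^ n = 1 → ∃ c : K, c ≠ 0 ∧ algebraMap K F c * h = D.τ y h := by
    intro y hy
    have h2 : ∀ p, IsU D p (D.τ y h * h⁻¹) := by
      intro p
      have h3 := (hrel (D.act y p)).map
      rw [hact y hy, map_mul, map_mul, map_inv₀, hτσ y hy, hτσ y hy] at h3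
      have h4 := h3.mul (hrel p).inv
      obtain ⟨h5, -, -⟩ := hrel p
      have h6 : σ (γ (ν p)) ≠ 0 := fun h0 => h5 (by rw [h0, zero_mul, zero_mul])
      have h7 : (σ (D.τ w (γ (D.act w (ν p))))) ≠ 0 := fun h0 => h5 (by rw [h0, inv_zero, mul_zero])
      convert h4 using 1
      field_simp
    obtain ⟨c, hc0, hc⟩ := exists_const h2 (mul_ne_zero ((map_ne_zero _).mpr hh) (inv_ne_zero hh))
    refine ⟨c, hc0, ?_⟩
    rw [hc, mul_assoc, inv_mul_cancel₀ hh, mul_one]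
  have h2 : ∀ y : G, y ^ n = 1 → D.τ y (h ^ P) = h ^ P := by
    intro y hy
    obtain ⟨c, hc0, hc⟩ := h1 y hy
    have h3 : ∀ j : ℕ, D.τ (y ^ j) h = algebraMap K F c ^ j * h := by
      intro j
      induction j with
      | zero => simp
      | succ j ih =>
        rw [pow_succ', map_mul, AlgEquiv.mul_apply, ih, map_mul, map_pow, AlgEquiv.commutes, ← hc,
          pow_succ]
        ring
    have h4 := h3 n
    rw [hy, map_one, AlgEquiv.one_apply] at h4
    have h5 : c ^ n = 1 := by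
      apply (algebraMap K F).injective
      rw [map_pow, map_one]
      exact mul_right_cancel₀ hh (h4.symm.trans (one_mul h).symm)
    have h6 := hP c h5
    rw [map_pow, ← hc, mul_pow, ← map_pow, h6, map_one, one_mul]
  obtain ⟨f, hf⟩ := hfix _ h2
  have hf0 : f ≠ 0 := by
    rintro rfl
    rw [map_zero] at hf
    exact pow_ne_zero P hh hf.symm
  refine ⟨f, hf0, fun b => ?_⟩
  obtain ⟨p, rfl⟩ := hν b
  have h3 := (hrel p).pow P
  have h4 : (σ (γ (ν p)) * h * (σ (D.τ w (γ (D.act w (ν p)))))⁻¹) ^ P =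
      σ (γ (ν p) ^ P * f * (D.τ w (γ (D.act w (ν p))) ^ P)⁻¹) := by
    rw [map_mul, map_mul, map_inv₀, map_pow, map_pow, hf, mul_pow, mul_pow, inv_pow]
  rw [h4] at h3
  refine ⟨?_, hσ _ _ h3.2.1, hσ _ _ ?_⟩
  · intro h0
    exact h3.1 (by rw [h0, map_zero])
  · rw [map_inv₀]
    exact h3.2.2

end weil

section trans

variable (D) in
/-- "Global sections" of the line bundle with local equations `γ`. -/
def V (γ : X → F) : Submodule K F where
  carrier := {φ | ∀ b, φ * (γ b)⁻¹ ∈ D.O b}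
  add_mem' := fun {a b} ha hb p => by
    rw [add_mul]; exact (D.O p).add_mem (ha p) (hb p)
  zero_mem' := fun p => by rw [zero_mul]; exact (D.O p).zero_mem
  smul_mem' := fun c φ hφ p => by
    rw [Algebra.smul_def, mul_assoc]
    exact (D.O p).mul_mem (D.algebraMap_mem c p) (hφ p)

lemma mem_V {γ : X → F} {φ : F} : φ ∈ V D γ ↔ ∀ b, φ * (γ b)⁻¹ ∈ D.O b := Iff.rfl

variable {γ : X → F} {w : G} {f : F}

/-- The multipliers of the powers of the twisted translation. -/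
noncomputable def mult (D : Core K F X G) (w : G) (f : F) : ℕ → F
  | 0 => 1
  | j + 1 => f⁻¹ * D.τ w (mult D w f j)

lemma mult_ne_zero (hf : f ≠ 0) (j : ℕ) : mult D w f j ≠ 0 := by
  induction j with
  | zero => exact one_ne_zero
  | succ j ih => exact mul_ne_zero (inv_ne_zero hf) ((map_ne_zero _).mpr ih)

lemma mult_rel (hrel : ∀ b, IsU D b (γ b * f * (D.τ w (γ (D.act w b)))⁻¹)) (j : ℕ) (b : X) :
    IsU D b (γ b * (mult D w f j)⁻¹ * (D.τ (w ^ j) (γ (D.act (w ^ j) b)))⁻¹) := by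
  have hγ : ∀ b, γ b ≠ 0 := fun b h0 => (hrel b).1 (by rw [h0, zero_mul, zero_mul])
  have hf : f ≠ 0 := fun h0 => (hrel b).1 (by rw [h0, mul_zero, zero_mul])
  induction j generalizing b with
  | zero =>
    have h1 : γ b * (mult D w f 0)⁻¹ * (D.τ (w ^ 0) (γ (D.act (w ^ 0) b)))⁻¹ = 1 := by
      rw [pow_zero, map_one, D.act_one, AlgEquiv.one_apply]
      change γ b * (1 : F)⁻¹ * (γ b)⁻¹ = 1
      rw [inv_one, mul_one, mul_inv_cancel₀ (hγ b)]
    rw [h1]
    exact ⟨one_ne_zero, (D.O b).one_mem, by rw [inv_one]; exact (D.O b).one_mem⟩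
  | succ j ih =>
    have h1 := (ih (D.act w b)).map
    have h2 := (hrel b).mul h1
    have h3 : D.act (w ^ (j + 1)) b = D.act (w ^ j) (D.act w b) := by
      rw [pow_succ', D.act_mul]
    have h4 : D.τ (w ^ (j + 1)) (γ (D.act (w ^ (j + 1)) b)) =
        D.τ w (D.τ (w ^ j) (γ (D.act (w ^ j) (D.act w b)))) := by
      rw [h3, pow_succ', map_mul, AlgEquiv.mul_apply]
    rw [h4]
    convert h2 using 1
    have e1 : mult D w f (j + 1) = f⁻¹ * D.τ w (mult D w f j) := rfl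
    rw [e1, map_mul, map_mul, map_inv₀, map_inv₀]
    have := hγ b
    have := hγ (D.act w b)
    have := (map_ne_zero (D.τ w)).mpr (hγ (D.act w b))
    have := (map_ne_zero (D.τ w)).mpr (mult_ne_zero (D := D) (w := w) hf j)
    have := (map_ne_zero (D.τ w)).mpr ((map_ne_zero (D.τ (w ^ j))).mpr (hγ (D.act (w ^ j) (D.act w b))))
    field_simp

/-- The twisted translation on sections. -/
noncomputable def T (hrel : ∀ b, IsU D b (γ b * f * (D.τ w (γ (D.act w b)))⁻¹)) :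
    Module.End K (V D γ) where
  toFun ψ := ⟨f⁻¹ * D.τ w ψ, fun b => by
    have h1 := D.map_mem w b _ (ψ.2 (D.act w b))
    have h2 := (D.O b).mul_mem h1 (hrel b).2.2
    have h3 : D.τ w (γ (D.act w b)) ≠ 0 := fun h0 => (hrel b).1 (by rw [h0, inv_zero, mul_zero])
    convert h2 using 1
    rw [map_mul, map_inv₀, mul_inv, mul_inv, inv_inv]
    field_simp⟩
  map_add' a b := Subtype.ext (by
    change f⁻¹ * D.τ w ((a : F) + b) = f⁻¹ * D.τ w a + f⁻¹ * D.τ w b
    rw [map_add, mul_add])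
  map_smul' c a := Subtype.ext (by
    change f⁻¹ * D.τ w (c • (a : F)) = c • (f⁻¹ * D.τ w a)
    rw [map_smul, mul_smul_comm])

lemma T_pow (hrel : ∀ b, IsU D b (γ b * f * (D.τ w (γ (D.act w b)))⁻¹)) (j : ℕ) (ψ : V D γ) :
    (((T hrel) ^ j) ψ : F) = mult D w f j * D.τ (w ^ j) ψ := by
  induction j with
  | zero =>
    rw [pow_zero, pow_zero, map_one]
    change (ψ : F) = 1 * ψ
    rw [one_mul]
  | succ j ih =>
    rw [pow_succ', Module.End.mul_apply]
    change f⁻¹ * D.τ w (((T hrel) ^ j) ψ : F) = _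
    rw [ih, pow_succ', map_mul D.τ, AlgEquiv.mul_apply, map_mul]
    change _ = f⁻¹ * D.τ w (mult D w f j) * _
    ring

/-- If the line bundle is invariant under translation by `w`, of order dividing `p ^ m`, and the
`p`-power roots of unity of bounded degree are bounded, then translation by a bounded power of `w`
fixes all quotients of sections. -/
theorem exists_fix {Ω : Type*} [Field Ω] [Algebra K Ω] [IsAlgClosed Ω] [CharZero K]
    (hrel : ∀ b, IsU D b (γ b * f * (D.τ w (γ (D.act w b)))⁻¹)) (hf : f ≠ 0)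
    [FiniteDimensional K (V D γ)] [Nontrivial (V D γ)] (p : ℕ) (hp : p.Prime) (N : ℕ)
    (hZ : ScalarPow.RootBound K Ω p (Module.finrank K (V D γ) * Module.finrank K (V D γ)) N)
    (m : ℕ) (hw : w ^ p ^ m = 1) (ψ ψ' : F) (hψ : ψ ∈ V D γ) (hψ' : ψ' ∈ V D γ) :
    D.τ (w ^ p ^ (N + 1)) (ψ * ψ'⁻¹) = ψ * ψ'⁻¹ := by
  -- `T ^ (p ^ m)` is a scalar
  have h1 : ∀ b, IsU D b (mult D w f (p ^ m)) := by
    intro b
    have h2 := (mult_rel hrel (p ^ m) b).inv
    rw [hw, map_one, D.act_one, AlgEquiv.one_apply] at h2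
    have hγ : γ b ≠ 0 := fun h0 => (hrel b).1 (by rw [h0, zero_mul, zero_mul])
    convert h2 using 1
    have := mult_ne_zero (D := D) (w := w) hf (p ^ m)
    field_simp
  obtain ⟨c, hc0, hc⟩ := exists_const h1 (mult_ne_zero hf _)
  have h2 : (T hrel) ^ (p ^ m) = algebraMap K _ c := by
    ext ψ
    rw [T_pow, hw, map_one, AlgEquiv.one_apply, ← hc, Module.algebraMap_end_apply]
    change _ = c • (ψ : F)
    rw [Algebra.smul_def]
  obtain ⟨d, hd⟩ := ScalarPow.exists_scalar_pow (Ω := Ω) p hp N hZ (T hrel) m c hc0 h2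
  have h3 : ∀ ψ : F, ψ ∈ V D γ → mult D w f (p ^ (N + 1)) * D.τ (w ^ p ^ (N + 1)) ψ =
      algebraMap K F d * ψ := by
    intro ψ hψ
    have h4 := congrArg Subtype.val (LinearMap.congr_fun hd ⟨ψ, hψ⟩)
    rw [T_pow, Module.algebraMap_end_apply] at h4
    change _ = d • ψ at h4
    rw [Algebra.smul_def] at h4
    exact h4
  by_cases hψ0 : ψ' = 0
  · rw [hψ0, inv_zero, mul_zero, map_zero]
  by_cases hψ1 : ψ = 0
  · rw [hψ1, zero_mul, map_zero]
  have h4 := h3 ψ hψ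
  have h5 := h3 ψ' hψ'
  have hm := mult_ne_zero (D := D) (w := w) hf (p ^ (N + 1))
  have hτ' : D.τ (w ^ p ^ (N + 1)) ψ' ≠ 0 := (map_ne_zero _).mpr hψ0
  have hd0 : algebraMap K F d ≠ 0 := by
    intro h0
    rw [h0, zero_mul] at h5
    exact (mul_ne_zero hm hτ') h5
  rw [map_mul, map_inv₀]
  have h6 : D.τ (w ^ p ^ (N + 1)) ψ = (mult D w f (p ^ (N + 1)))⁻¹ * (algebraMap K F d * ψ) := by
    rw [← h4]; field_simp
  have h7 : D.τ (w ^ p ^ (N + 1)) ψ' = (mult D w f (p ^ (N + 1)))⁻¹ * (algebraMap K F d * ψ') := by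
    rw [← h5]; field_simp
  rw [h6, h7]
  field_simp

end trans

end Groth.Agent.Sga7.H761.PairCore
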