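import Mathlib.LinearAlgebra.Charpoly.Basic
import Mathlib.FieldTheory.IntermediateField.Adjoin.Basic
import Mathlib.FieldTheory.Separable
import Mathlib.FieldTheory.Minpoly.Finite
import Mathlib.FieldTheory.IsAlgClosed.Basic
import Mathlib.RingTheory.RootsOfUnity.PrimitiveRoots

/-!
# Endomorphisms with a scalar `p`-power

If `T ^ (p ^ m)` is a scalar and the `p`-power roots of unity of bounded degree over `L` have
bounded order then a fixed power of `T` is a scalar.
-/

set_option autoImplicit false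

open Polynomial

namespace Groth.Agent.Sga7.H761.ScalarPow

variable {L Ω : Type*} [Field L] [Field Ω] [Algebra L Ω]

/-- If two elements have degree at most `r`, their quotient has degree at most `r * r`. -/
lemma natDegree_minpoly_div_le {α β : Ω} (hα : IsIntegral L α) (hβ : IsIntegral L β) {r : ℕ}
    (h1 : (minpoly L α).natDegree ≤ r) (h2 : (minpoly L β).natDegree ≤ r) :
    (minpoly L (β / α)).natDegree ≤ r * r := by
  let E₁ := IntermediateField.adjoin L {α}
  let E₂ := IntermediateField.adjoin L {β}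
  have f1 : FiniteDimensional L E₁ := IntermediateField.adjoin.finiteDimensional hα
  have f2 : FiniteDimensional L E₂ := IntermediateField.adjoin.finiteDimensional hβ
  have e1 : Module.finrank L E₁ ≤ r := (IntermediateField.adjoin.finrank hα).trans_le h1
  have e2 : Module.finrank L E₂ ≤ r := (IntermediateField.adjoin.finrank hβ).trans_le h2
  have hα' : α ∈ E₁ ⊔ E₂ := (le_sup_left : E₁ ≤ E₁ ⊔ E₂) (IntermediateField.mem_adjoin_simple_self L α)
  have hβ' : β ∈ E₁ ⊔ E₂ := (le_sup_right : E₂ ≤ E₁ ⊔ E₂) (IntermediateField.mem_adjoin_simple_self L β)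
  have hζ : β / α ∈ E₁ ⊔ E₂ := div_mem hβ' hα'
  have f3 : FiniteDimensional L (E₁ ⊔ E₂ : IntermediateField L Ω) :=
    IntermediateField.finiteDimensional_sup E₁ E₂
  have h3 : minpoly L (β / α) = minpoly L (⟨β / α, hζ⟩ : (E₁ ⊔ E₂ : IntermediateField L Ω)) :=
    minpoly.algebraMap_eq (A := L) (B := (E₁ ⊔ E₂ : IntermediateField L Ω)) (B' := Ω)
      (algebraMap (E₁ ⊔ E₂ : IntermediateField L Ω) Ω).injective ⟨β / α, hζ⟩
  rw [h3]
  refine (minpoly.natDegree_le _).trans ((IntermediateField.finrank_sup_le E₁ E₂).trans ?_)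
  exact Nat.mul_le_mul e1 e2

/-- Bounded degree over `L` implies bounded order, for `p`-power roots of unity. -/
def RootBound (L Ω : Type*) [Field L] [Field Ω] [Algebra L Ω] (p D N : ℕ) : Prop :=
  ∀ (j : ℕ) (ζ : Ω), IsPrimitiveRoot ζ (p ^ (j + 1)) → (minpoly L ζ).natDegree ≤ D → j ≤ N

lemma RootBound.pow_eq_one {p D N : ℕ} (hp : p.Prime) (h : RootBound L Ω p D N) {ζ : Ω} {m : ℕ}
    (hζ : ζ ^ p ^ m = 1) (hd : (minpoly L ζ).natDegree ≤ D) : ζ ^ p ^ (N + 1) = 1 := by
  have h1 : orderOf ζ ∣ p ^ m := orderOf_dvd_of_pow_eq_one hζ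
  obtain ⟨i, -, hi⟩ := (Nat.dvd_prime_pow hp).mp h1
  rcases i with _ | j
  · rw [pow_zero, orderOf_eq_one_iff] at hi
    rw [hi, one_pow]
  · have h2 : IsPrimitiveRoot ζ (p ^ (j + 1)) := hi ▸ IsPrimitiveRoot.orderOf ζ
    have h3 := h j ζ h2 hd
    have h4 : p ^ (j + 1) ∣ p ^ (N + 1) := pow_dvd_pow _ (by omega)
    obtain ⟨c, hc⟩ := h4
    rw [hc, pow_mul, h2.pow_eq_one, one_pow]

theorem exists_scalar_pow {V : Type*} [IsAlgClosed Ω] [CharZero L] [AddCommGroup V] [Module L V]
    [FiniteDimensional L V] [Nontrivial V] (p : ℕ) (hp : p.Prime) (N : ℕ)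
    (hZ : RootBound L Ω p (Module.finrank L V * Module.finrank L V) N)
    (T : Module.End L V) (m : ℕ) (c : L) (hc : c ≠ 0) (hT : T ^ (p ^ m) = algebraMap L _ c) :
    ∃ d : L, T ^ (p ^ (N + 1)) = algebraMap L (Module.End L V) d := by
  have hTint : IsIntegral L T := Algebra.IsIntegral.isIntegral T
  set f := minpoly L T with hf
  have hfmonic : f.Monic := minpoly.monic hTint
  have hfdeg : f.natDegree ≤ Module.finrank L V := by
    rw [← LinearMap.charpoly_natDegree T]
    exact natDegree_le_of_dvd (LinearMap.minpoly_dvd_charpoly T) (LinearMap.charpoly_monic T).ne_zero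
  have hfdvd : f ∣ X ^ (p ^ m) - C c := minpoly.dvd L T (by
    rw [map_sub, map_pow, aeval_X, aeval_C, hT, sub_self])
  have hpm : ((p ^ m : ℕ) : L) ≠ 0 := by exact_mod_cast (pow_pos hp.pos m).ne'
  have hsep : f.Separable := (separable_X_pow_sub_C c hpm hc).of_dvd hfdvd
  have hfpos : 0 < f.natDegree := minpoly.natDegree_pos hTint
  obtain ⟨α, hα⟩ : ∃ α : Ω, aeval α f = 0 :=
    IsAlgClosed.exists_aeval_eq_zero Ω f (by
      rw [degree_eq_natDegree hfmonic.ne_zero]
      exact_mod_cast hfpos.ne')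
  have hroot : ∀ β : Ω, aeval β f = 0 → β ^ (p ^ m) = algebraMap L Ω c ∧ IsIntegral L β ∧
      (minpoly L β).natDegree ≤ Module.finrank L V := by
    intro β hβ
    refine ⟨?_, ⟨f, hfmonic, by rwa [← aeval_def]⟩, ?_⟩
    · obtain ⟨g, hg⟩ := hfdvd
      have h1 : aeval β (X ^ (p ^ m) - C c) = 0 := by rw [hg, map_mul, hβ, zero_mul]
      rw [map_sub, map_pow, aeval_X, aeval_C, sub_eq_zero] at h1
      exact h1
    · exact (natDegree_le_of_dvd (minpoly.dvd L β hβ) hfmonic.ne_zero).trans hfdeg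
  have hc' : algebraMap L Ω c ≠ 0 := by simpa using hc
  obtain ⟨hα1, hα2, hα3⟩ := hroot α hα
  have hα0 : α ≠ 0 := by
    rintro rfl
    rw [zero_pow (pow_pos hp.pos m).ne'] at hα1
    exact hc' hα1.symm
  set P := p ^ (N + 1) with hP
  have hpow : ∀ β : Ω, aeval β f = 0 → β ^ P = α ^ P := by
    intro β hβ
    obtain ⟨h1, h2, h3⟩ := hroot β hβ
    have h4 : (β / α) ^ p ^ m = 1 := by
      rw [div_pow, h1, hα1, div_self hc']
    have h5 := hZ.pow_eq_one hp h4 (natDegree_minpoly_div_le hα2 h2 hα3 h3)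
    rw [div_pow, div_eq_one_iff_eq (pow_ne_zero _ hα0)] at h5
    exact h5
  -- over `Ω`, `f ∣ X ^ P - α ^ P`
  have hdvd : f.map (algebraMap L Ω) ∣ X ^ P - C (α ^ P) := by
    have hsep' : (f.map (algebraMap L Ω)).Separable := hsep.map
    have hsplit : (f.map (algebraMap L Ω)).Splits := IsAlgClosed.splits _
    have hPpos : 0 < P := pow_pos hp.pos _
    have hne : (X ^ P - C (α ^ P) : Ω[X]) ≠ 0 := (monic_X_pow_sub_C _ hPpos.ne').ne_zero
    have hmon : (f.map (algebraMap L Ω)).Monic := hfmonic.map _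
    rw [hsplit.eq_prod_roots_of_monic hmon]
    rw [Multiset.prod_X_sub_C_dvd_iff_le_roots hne]
    rw [Multiset.le_iff_subset (nodup_roots hsep')]
    intro β hβ
    rw [mem_roots (hmon.ne_zero), IsRoot.def, eval_map_algebraMap] at hβ
    rw [mem_roots hne, IsRoot.def, eval_sub, eval_pow, eval_X, eval_C, hpow β hβ, sub_self]
  -- the remainder of `X ^ P` modulo `f`
  set g := (X ^ P : L[X]) %ₘ f with hg
  have hgmap : g.map (algebraMap L Ω) = C (α ^ P) := by
    rw [hg, map_modByMonic _ hfmonic, Polynomial.map_pow, map_X]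
    have h1 : (X ^ P : Ω[X]) = C (α ^ P) + (X ^ P - C (α ^ P)) := by ring
    rw [h1, add_modByMonic, (modByMonic_eq_zero_iff_dvd (hfmonic.map _)).mpr hdvd, add_zero]
    refine (modByMonic_eq_self_iff (hfmonic.map _)).mpr ?_
    rw [degree_map]
    refine degree_C_le.trans_lt ?_
    rw [degree_eq_natDegree hfmonic.ne_zero]
    exact_mod_cast hfpos
  have hg0 : g = C (g.coeff 0) := by
    apply Polynomial.map_injective _ (algebraMap L Ω).injective
    have h1 : algebraMap L Ω (g.coeff 0) = α ^ P := by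
      rw [← coeff_map, hgmap, coeff_C_zero]
    rw [hgmap, map_C, h1]
  refine ⟨g.coeff 0, ?_⟩
  have h1 : aeval T (X ^ P : L[X]) = aeval T g := by
    rw [hg]
    conv_lhs => rw [← modByMonic_add_div (X ^ P : L[X]) f]
    rw [map_add, map_mul, hf, minpoly.aeval, zero_mul, add_zero]
  rw [map_pow, aeval_X] at h1
  rw [h1, hg0, aeval_C, coeff_C_zero]

end Groth.Agent.Sga7.H761.ScalarPow
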