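import Groth.Agent.Sga7.H761.FunSig
import Groth.Agent.Sga7.H761.PairCore
import Mathlib.AlgebraicGeometry.Group.Abelian
import Mathlib.CategoryTheory.Monoidal.Cartesian.Grp

/-!
# Translations on an abelian variety and their action on the function field
-/

set_option autoImplicit false
universe u

open CategoryTheory Limits MonoidalCategory CartesianMonoidalCategory AlgebraicGeometry
open scoped MonObj
open Groth.Agent.Dix.Center Groth.Agent.Grpsch.GrowthFF Groth.Agent.Grpsch.GrowthPull

noncomputable section

namespace Groth.Agent.Sga7.H761.TransSig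

open Groth.Agent.Sga7.H761.FunSig Groth.Agent.Sga7.H761.PairCore

variable {K : Type u} [Field K] (A : Over (Spec (CommRingCat.of K))) [GrpObj A]

/-- The group of rational points. -/
abbrev Pt : Type u := 𝟙_ (Over (Spec (CommRingCat.of K))) ⟶ A

variable {A}

/-- Translation by a rational point. -/
def t (w : Pt A) : A ⟶ A := 𝟙 A * (toUnit A ≫ w)

lemma t_one : t (1 : Pt A) = 𝟙 A := by
  rw [t, MonObj.comp_one, mul_one]

lemma comp_t {T : Over (Spec (CommRingCat.of K))} (x : T ⟶ A) (w : Pt A) :
    x ≫ t w = x * (toUnit T ≫ w) := by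
  rw [t, MonObj.comp_mul, Category.comp_id, ← Category.assoc, toUnit_unique (x ≫ toUnit A) (toUnit T)]

lemma t_comp_t (v w : Pt A) : t v ≫ t w = t (v * w) := by
  rw [comp_t, t, t, MonObj.comp_mul, mul_assoc]

lemma pt_comp_t (v w : Pt A) : v ≫ t w = v * w := by
  rw [comp_t, toUnit_unique (toUnit (𝟙_ (Over (Spec (CommRingCat.of K))))) (𝟙 _), Category.id_comp]

lemma t_injective {w : Pt A} (h : t w = 𝟙 A) : w = 1 := by
  have h1 := pt_comp_t (1 : Pt A) w
  rw [h, Category.comp_id, one_mul] at h1
  exact h1.symm

instance isIso_t (w : Pt A) : IsIso (t w) :=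
  ⟨t w⁻¹, by rw [t_comp_t, mul_inv_cancel, t_one], by rw [t_comp_t, inv_mul_cancel, t_one]⟩

instance isIso_t_left (w : Pt A) : IsIso (t w).left :=
  inferInstanceAs (IsIso ((Over.forget _).map (t w)))

section integral

variable [AlgebraicGeometry.IsIntegral A.left]

lemma t_generic (w : Pt A) : (t w).left (genericPoint A.left) = genericPoint A.left :=
  Groth.Agent.Grpsch.GrowthMain.map_genericPoint _

variable (A) in
/-- `A` over `Spec K`. -/
@[reducible] def overA : A.left.Over (Spec (CommRingCat.of K)) := ⟨A.hom⟩

attribute [local instance] overA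

attribute [local instance] kAlg

/-- The action of a translation on the function field. -/
def τHom (w : Pt A) : A.left.functionField →ₐ[K] A.left.functionField :=
  sigK (t w).left (t_generic w) K (Over.w (t w))

lemma τHom_apply (w : Pt A) (φ : A.left.functionField) :
    τHom w φ = sig (t w).left (t_generic w) φ := rfl

lemma τHom_mul (v w : Pt A) (φ : A.left.functionField) : τHom (v * w) φ = τHom v (τHom w φ) := by
  rw [τHom_apply, τHom_apply, τHom_apply]
  have h : (t (v * w)).left = (t v).left ≫ (t w).left := by rw [← Over.comp_left, t_comp_t]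
  have h2 : ((t v).left ≫ (t w).left) (genericPoint A.left) = genericPoint A.left := h ▸ t_generic _
  rw [sig_congr h (t_generic _) h2, sig_comp _ _ (t_generic v) (t_generic w)]

lemma τHom_one (φ : A.left.functionField) : τHom (1 : Pt A) φ = φ := by
  rw [τHom_apply]
  have h : (t (1 : Pt A)).left = 𝟙 A.left := by rw [t_one]; rfl
  have h2 : (𝟙 A.left : A.left ⟶ A.left) (genericPoint A.left) = genericPoint A.left := by simp
  rw [sig_congr h (t_generic _) h2, sig_id]

/-- The action of a translation on the function field, as an automorphism. -/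
def τEquiv (w : Pt A) : A.left.functionField ≃ₐ[K] A.left.functionField :=
  AlgEquiv.ofAlgHom (τHom w) (τHom w⁻¹)
    (by ext φ; change τHom w (τHom w⁻¹ φ) = φ; rw [← τHom_mul, mul_inv_cancel, τHom_one])
    (by ext φ; change τHom w⁻¹ (τHom w φ) = φ; rw [← τHom_mul, inv_mul_cancel, τHom_one])

lemma τEquiv_apply (w : Pt A) (φ : A.left.functionField) : τEquiv w φ = τHom w φ := rfl

/-- The action of translations on the function field. -/
def τM : Pt A →* (A.left.functionField ≃ₐ[K] A.left.functionField) where
  toFun := τEquiv
  map_one' := by ext φ; exact τHom_one φ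
  map_mul' v w := by ext φ; exact τHom_mul v w φ

lemma τM_apply (w : Pt A) (φ : A.left.functionField) :
    τM w φ = sig (t w).left (t_generic w) φ := rfl

variable [IsSeparated A.hom]

/-- The action of translations on the function field is faithful. -/
lemma τM_injective {w : Pt A} (h : ∀ φ, τM w φ = φ) : w = 1 := by
  apply t_injective
  ext1
  exact eq_id_of_sig_eq A.hom (t w).left (Over.w (t w)) (t_generic w) h

end integral

end Groth.Agent.Sga7.H761.TransSig
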