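import Groth.Agent.Sga7.H761.TransSig
import Groth.Agent.Sga7.H761.FixField
import Groth.Agent.Sga7.H761.CubeSq
import Groth.Agent.Grpsch.MulFin
import Groth.Agent.Grpsch.CubePush

/-!
# The Weil pairing argument on an abelian variety
-/

set_option autoImplicit false
universe u

open CategoryTheory Limits MonoidalCategory CartesianMonoidalCategory AlgebraicGeometry
open scoped MonObj
open Groth.Agent.Dix.Center Groth.Agent.Grpsch.GrowthFF Groth.Agent.Grpsch.GrowthPull
open Groth.Agent.Grpsch.GrowthLine Groth.Agent.Grpsch.GrowthMain Groth.Agent.Grpsch.GrowthGeom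
open Groth.Agent.Grpsch.GrowthAlg
open Groth.Agent.Fdesc.LocGen Groth.Agent.Flat2H.FamExt Groth.Agent.Flat2H.FamDict

noncomputable section

namespace Groth.Agent.Sga7.H761.WeilGeom

open Groth.Agent.Sga7.H761.FunSig Groth.Agent.Sga7.H761.PairCore Groth.Agent.Sga7.H761.TransSig

variable {K : Type u} [Field K] (A : Over (Spec (CommRingCat.of K))) [GrpObj A] [IsProper A.hom]
  [GeometricallyIntegral A.hom] [AlgebraicGeometry.IsIntegral A.left]

attribute [local instance] overA kAlg

omit [GrpObj A] in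
/-- global functions are constants -/
lemma exists_const_of_regular (φ : A.left.functionField) (h : ∀ p, φ ∈ O A.left p) :
    ∃ c : K, algebraMap K A.left.functionField c = φ := by
  obtain ⟨s, hs⟩ := exists_section ⊤ trivial φ fun x _ => h x
  have h1 : Function.Bijective A.hom.appTop.hom :=
    Groth.Agent.Grpsch.CubeData.bijective_appTop A.hom
  obtain ⟨r, hr⟩ := h1.2 s
  obtain ⟨c, hc⟩ := (ConcreteCategory.bijective_of_isIso
    (Scheme.ΓSpecIso (CommRingCat.of K)).inv).2 r
  refine ⟨c, ?_⟩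
  change kF A.left K c = φ
  rw [kF_apply A.left K ⊤ trivial c, ← hs, ← hr, ← hc, kSec]
  simp
  rfl

/-- The core data of an abelian variety. -/
def core [IsCommMonObj A] : Core K A.left.functionField A.left (Pt A) where
  O := O A.left
  τ := τM
  act := fun w p => (t w).left p
  act_one := fun p => by
    have h : (t (1 : Pt A)).left = 𝟙 A.left := by rw [t_one]; rfl
    rw [h]; rfl
  act_mul := fun v w p => by
    have h : (t (v * w)).left = (t v).left ≫ (t w).left := by rw [← Over.comp_left, t_comp_t]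
    rw [h]; rfl
  mem_range := exists_const_of_regular A
  algebraMap_mem := fun c p => kF_mem_O A.left K p c
  map_mem := fun v p φ hφ => sig_mem_O (t v).left (t_generic v) hφ

lemma pow_generic (n : ℕ) (hn : 1 ≤ n) :
    (𝟙 A ^ n).left (genericPoint A.left) = genericPoint A.left := by
  have := Groth.Agent.Grpsch.MulFin.surjective_pow A n hn
  exact Groth.Agent.Grpsch.MulFin.map_genericPoint _

/-- The action of `[n]` on the function field. -/
def σn (n : ℕ) (hn : 1 ≤ n) : A.left.functionField →ₐ[K] A.left.functionField :=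
  sigK (𝟙 A ^ n).left (pow_generic A n hn) K (Over.w (𝟙 A ^ n))

lemma σn_apply (n : ℕ) (hn : 1 ≤ n) (φ : A.left.functionField) :
    σn A n hn φ = sig (𝟙 A ^ n).left (pow_generic A n hn) φ := rfl

omit [IsProper A.hom] [GeometricallyIntegral A.hom] [AlgebraicGeometry.IsIntegral A.left] in
lemma t_comp_pow [IsCommMonObj A] (n : ℕ) (y : Pt A) (hy : y ^ n = 1) :
    t y ≫ (𝟙 A ^ n) = 𝟙 A ^ n := by
  rw [MonObj.comp_pow, Category.comp_id, t, mul_pow, ← MonObj.comp_pow, hy, MonObj.comp_one, mul_one]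

/-- The relation coming from the theorem of the square. -/
theorem exists_rel [IsCommMonObj A] (n : ℕ) (hn : 1 ≤ n) {M : A.left.Modules}
    (hM : PicF.IsInvertible M) {W : A.left → A.left.Opens} {G : ∀ i j, Γ(A.left, W i ⊓ W j)}
    (hW : ∀ p, p ∈ W p) (hT : Trivs M W G) (hη : ∀ p, genericPoint A.left ∈ W p) (w : Pt A)
    (hw : w ^ n = 1) :
    ∃ h : A.left.functionField, h ≠ 0 ∧ ∀ p, IsU (core A) p
      (σn A n hn (gam G hη (genericPoint A.left) ((𝟙 A ^ n).left p)) * h *
        (σn A n hn ((core A).τ w (gam G hη (genericPoint A.left)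
          ((core A).act w ((𝟙 A ^ n).left p)))))⁻¹) := by
  have hpic := Groth.Agent.Sga7.H761.CubeSq.pl_pow_mul_const (Groth.Agent.Grpsch.PicGrp.mk M hM)
    w (𝟙 A) n hw
  rw [← comp_t] at hpic
  let f : A.left ⟶ A.left := (𝟙 A ^ n).left
  let f' : A.left ⟶ A.left := ((𝟙 A ^ n) ≫ t w).left
  have hf : f (genericPoint A.left) = genericPoint A.left := pow_generic A n hn
  have hf'eq : f' = f ≫ (t w).left := Over.comp_left _ _ _ _ _
  have hf' : f' (genericPoint A.left) = genericPoint A.left := by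
    rw [hf'eq, Scheme.Hom.comp_apply, hf]
    exact t_generic w
  obtain ⟨e⟩ : Nonempty ((Scheme.Modules.pullback f').obj M ≅ (Scheme.Modules.pullback f).obj M) :=
    (Groth.Agent.Grpsch.PicGrp.mk_eq_iff (isInvertible_pullback f' hM)
      (isInvertible_pullback f hM)).mp hpic
  have h1 := hT.pullback f
  have h2 := (hT.pullback f').of_iso e
  have hη1 : ∀ p, genericPoint A.left ∈ f ⁻¹ᵁ W p := fun p => by
    change f (genericPoint A.left) ∈ W p
    rw [hf]; exact hη p
  have hη2 : ∀ p, genericPoint A.left ∈ f' ⁻¹ᵁ W p := fun p => by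
    change f' (genericPoint A.left) ∈ W p
    rw [hf']; exact hη p
  obtain ⟨c, hc, hcc⟩ := compare h1 hη1 (genericPoint A.left) h2 hη2 (genericPoint A.left)
  have hγ1 : ∀ p, gam (fun i j => f.app (W i ⊓ W j) (G i j)) hη1 (genericPoint A.left) p =
      sig f hf (gam G hη (genericPoint A.left) p) := fun p =>
    (sig_germ f hf (W p ⊓ W (genericPoint A.left)) ⟨hη p, hη _⟩ ⟨hη1 p, hη1 _⟩ (G p _)).symm
  have hγ2 : ∀ p, gam (fun i j => f'.app (W i ⊓ W j) (G i j)) hη2 (genericPoint A.left) p =
      sig f' hf' (gam G hη (genericPoint A.left) p) := fun p =>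
    (sig_germ f' hf' (W p ⊓ W (genericPoint A.left)) ⟨hη p, hη _⟩ ⟨hη2 p, hη2 _⟩ (G p _)).symm
  have hγ0 : ∀ p, gam G hη (genericPoint A.left) p ≠ 0 := fun p => gam_ne hT hη _ p
  refine ⟨c, hc, fun p => ?_⟩
  have h3 := hcc (f p) (f' p) p (hW (f p)) (hW (f' p))
  rw [hγ1, hγ2] at h3
  have h4 : sig f' hf' (gam G hη (genericPoint A.left) (f' p)) =
      σn A n hn ((core A).τ w (gam G hη (genericPoint A.left)
          ((core A).act w ((𝟙 A ^ n).left p)))) := by
    have h5 : f' p = (t w).left (f p) := by rw [hf'eq, Scheme.Hom.comp_apply]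
    have h6 : (f ≫ (t w).left) (genericPoint A.left) = genericPoint A.left := hf'eq ▸ hf'
    rw [h5, sig_congr hf'eq hf' h6, sig_comp f (t w).left hf (t_generic w) h6]
    rfl
  rw [h4] at h3
  refine ⟨?_, h3.1, h3.2⟩
  refine mul_ne_zero (mul_ne_zero ((map_ne_zero _).mpr (hγ0 _)) hc) (inv_ne_zero ?_)
  exact (map_ne_zero _).mpr ((map_ne_zero _).mpr (hγ0 _))

end Groth.Agent.Sga7.H761.WeilGeom
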